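/-
A three-dimensional quadratic space over a cubic extension: coordinates at a singular line.
-/
import Cfsg.Agent.Lib.Classical22.OrthField.Basic
import Cfsg.Agent.Lib.Classical22.OrthMaxMove
import Cfsg.Agent.Lib.Classical.SpinorCriterion

set_option autoImplicit false
set_option linter.all false

namespace CfsgLib.Classical22.OrthField.Cubic

open CfsgLib.Classical

variable {F : Type*} [Field F] {K : Type*} [Field K] [Algebra F K]
variable {V : Type*} [AddCommGroup V] [Module F V] [Module K V] [IsScalarTower F K V]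
variable {Q : QuadraticForm F V} {R : QuadraticForm K V}

/-- A hyperbolic pair with an anisotropic vector whose value is in the ground field. -/
structure Std (R : QuadraticForm K V) (v f e : V) (t : F) : Prop where
  sv : R v = 0
  sf : R f = 0
  fv : QuadraticMap.polar R f v = 1
  ve : QuadraticMap.polar R v e = 0
  fe : QuadraticMap.polar R f e = 0
  re : R e = algebraMap F K t
  t0 : t ≠ 0
  span : ∀ x, ∃ a b c : K, x = a • v + b • e + c • f

/-- `g` fixes pointwise the perp of the line of `v`. -/
def FixPerp (R : QuadraticForm K V) (v : V) (g : qAut Q) : Prop :=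
  ∀ x, QuadraticMap.polar R x v = 0 → g.1 x = x

/-- `g` is trivial on the line of `v` and on its perp modulo the line. -/
def InRad (R : QuadraticForm K V) (v : V) (g : qAut Q) : Prop :=
  (∀ k : K, g.1 (k • v) = k • v) ∧ ∀ x, QuadraticMap.polar R x v = 0 → ∃ k : K, g.1 x = x + k • v

/-- `M` has no element other than one fixing such a perp. -/
def Tight (R : QuadraticForm K V) (M : Subgroup (qAut Q)) (v : V) : Prop :=
  ∀ g ∈ M, FixPerp R v g → g = 1

/-- Semilinear over `K`. -/
def IsSemi (K : Type*) [Field K] [Module K V] (g : qAut Q) : Prop :=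
  ∀ k : K, ∃ k' : K, ∀ x, g.1 (k • x) = k' • g.1 x

namespace Std

variable {v f e : V} {t : F} (S : Std R v f e t)
include S

omit [Module F V] [IsScalarTower F K V] in
lemma vf : QuadraticMap.polar R v f = 1 := (QuadraticMap.polar_comm R v f).trans S.fv

omit [Module F V] [IsScalarTower F K V] in
lemma v0 : v ≠ 0 := fun h => by
  have := S.fv
  rw [h, QuadraticMap.polar_zero_right] at this
  exact zero_ne_one this

omit [Module F V] [IsScalarTower F K V] in
lemma f0 : f ≠ 0 := fun h => by
  have := S.fv
  rw [h, QuadraticMap.polar_zero_left] at this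
  exact zero_ne_one this

omit [Module F V] [IsScalarTower F K V] in
lemma t0' : (algebraMap F K t) ≠ 0 := (map_ne_zero _).2 S.t0

omit [Module F V] [IsScalarTower F K V] in
lemma ee : QuadraticMap.polar R e e = 2 * algebraMap F K t := by rw [quad_polar_self, S.re]

omit [Module F V] [IsScalarTower F K V] in
lemma pol_v (a b c : K) : QuadraticMap.polar R (a • v + b • e + c • f) v = c := by
  simp [QuadraticMap.polar_add_left, QuadraticMap.polar_smul_left, quad_polar_self, S.sv,
    QuadraticMap.polar_comm R e v, S.ve, S.fv]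

omit [Module F V] [IsScalarTower F K V] in
lemma pol_f (a b c : K) : QuadraticMap.polar R (a • v + b • e + c • f) f = a := by
  simp [QuadraticMap.polar_add_left, QuadraticMap.polar_smul_left, quad_polar_self, S.sf,
    QuadraticMap.polar_comm R e f, S.fe, S.vf]

omit [Module F V] [IsScalarTower F K V] in
lemma pol_e (a b c : K) : QuadraticMap.polar R (a • v + b • e + c • f) e = b * (2 * algebraMap F K t) := by
  simp [QuadraticMap.polar_add_left, QuadraticMap.polar_smul_left, S.ve, S.fe, S.ee]

omit [Module F V] [IsScalarTower F K V] in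
lemma quad (a b c : K) : R (a • v + b • e + c • f) = a * c + b * b * algebraMap F K t := by
  simp only [quad_add, quad_smul, S.sv, S.sf, S.re, QuadraticMap.polar_add_left, QuadraticMap.polar_smul_left,
    QuadraticMap.polar_smul_right, S.ve, S.vf, QuadraticMap.polar_comm R e f, S.fe, smul_eq_mul]
  ring

omit [Module F V] [IsScalarTower F K V] in
lemma perp_form {x : V} (hx : QuadraticMap.polar R x v = 0) : ∃ a b : K, x = a • v + b • e := by
  obtain ⟨a, b, c, rfl⟩ := S.span x
  rw [S.pol_v] at hx
  exact ⟨a, b, by rw [hx, zero_smul, add_zero]⟩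

omit [Module F V] [IsScalarTower F K V] in
lemma pol_e' (x : V) : ∀ b : K, QuadraticMap.polar R (b • e) x = b * QuadraticMap.polar R x e := fun b => by
  rw [QuadraticMap.polar_smul_left, QuadraticMap.polar_comm, smul_eq_mul]

end Std

variable (E : Over Q R) {v f e : V} {t : F}
include E

/-- The root element with parameter `c`. -/
noncomputable def uu (v e : V) (c : K) : qAut Q := E.lift (eich R v (c • e))

variable (S : Std R v f e t)
include S

lemma uu_apply (c : K) (x : V) : (uu E v e c).1 x = x + (QuadraticMap.polar R x v * c) • e -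
    (c * QuadraticMap.polar R x e + c * c * algebraMap F K t * QuadraticMap.polar R x v) • v := by
  rw [uu, E.root_apply S.sv (by rw [QuadraticMap.polar_smul_right, S.ve, smul_zero]), smul_smul,
    QuadraticMap.polar_smul_right, quad_smul, S.re, smul_eq_mul]

lemma uu_perp (c a b : K) : (uu E v e c).1 (a • v + b • e) = a • v + b • e - (c * b * (2 * algebraMap F K t)) • v := by
  have h1 := S.pol_v a b 0
  have h2 := S.pol_e a b 0
  rw [zero_smul, add_zero] at h1 h2
  rw [uu_apply E S, h1, h2]
  module

lemma uu_f (c : K) : (uu E v e c).1 f = f + c • e - (c * c * algebraMap F K t) • v := by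
  rw [uu_apply E S, S.fv, S.fe]
  module

lemma uu_fix_v (c k : K) : (uu E v e c).1 (k • v) = k • v := by
  have := uu_perp E S c k 0
  simpa using this

lemma uu_rad (c : K) : InRad R v (uu E v e c) := by
  refine ⟨uu_fix_v E S c, fun x hx => ?_⟩
  obtain ⟨a, b, rfl⟩ := S.perp_form hx
  exact ⟨-(c * b * (2 * algebraMap F K t)), by rw [uu_perp E S]; module⟩

lemma uu_mul (c d : K) : uu E v e c * uu E v e d = uu E v e (c + d) := by
  rw [uu, uu, uu, ← map_mul, eich_mul R S.sv (by rw [QuadraticMap.polar_smul_right, S.ve, smul_zero])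
    (by rw [QuadraticMap.polar_smul_right, S.ve, smul_zero]), ← add_smul]

lemma uu_zero : uu E v e 0 = 1 := by
  rw [uu, zero_smul, eich_zero R S.sv, map_one]

lemma uu_inv (c : K) : (uu E v e c)⁻¹ = uu E v e (-c) := by
  refine inv_eq_of_mul_eq_one_right ?_
  rw [uu_mul E S, add_neg_cancel, uu_zero E S]

lemma uu_injective : Function.Injective (uu E v e) := fun c d h => by
  have h1 : (uu E v e c).1 f = (uu E v e d).1 f := by rw [h]
  have h2 := congrArg (fun x => QuadraticMap.polar R x e) h1
  simp only [uu_f E S, QuadraticMap.polar_sub_left, QuadraticMap.polar_add_left, QuadraticMap.polar_smul_left, S.fe,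
    S.ee, S.ve, smul_eq_mul, mul_zero, sub_zero, zero_add] at h2
  exact mul_right_cancel₀ (mul_ne_zero E.two' S.t0') h2

omit E in
lemma perp_vec (k : K) : QuadraticMap.polar R (k • e) v = 0 := by
  rw [QuadraticMap.polar_smul_left, QuadraticMap.polar_comm, S.ve, smul_zero]

variable [FiniteDimensional F K] [Finite K]

/-- An element fixing the perp pointwise moves only along the line. -/
lemma long_of_fixPerp {g : qAut Q} (hg : FixPerp R v g) :
    ∀ x, ∃ k : K, g.1 x = x + k • v := fun x => by
  obtain ⟨d, hd⟩ : ∃ d, d = g.1 x - x := ⟨_, rfl⟩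
  have key : ∀ y, QuadraticMap.polar R y v = 0 → ∀ k : K,
      Algebra.trace F K (k * QuadraticMap.polar R d y) = 0 := fun y hy k => by
    have h1 := qAut_polar g x (k • y)
    rw [hg (k • y) (by rw [QuadraticMap.polar_smul_left, hy, smul_zero])] at h1
    rw [← smul_eq_mul, ← QuadraticMap.polar_smul_right, ← E.polar, hd, QuadraticMap.polar_sub_left, h1, sub_self]
  have hv : QuadraticMap.polar R d v = 0 :=
    E.trace_ext (key v (by rw [quad_polar_self, S.sv, mul_zero]))
  have he : QuadraticMap.polar R d e = 0 :=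
    E.trace_ext (key e (by simpa using perp_vec S 1))
  obtain ⟨a, b, hab⟩ := S.perp_form hv
  have h2 := S.pol_e a b 0
  rw [zero_smul, add_zero, ← hab, he, eq_comm, mul_eq_zero] at h2
  refine ⟨a, ?_⟩
  rw [show g.1 x = x + d by rw [hd]; abel, hab, h2.resolve_right (mul_ne_zero E.two' S.t0'), zero_smul, add_zero]

/-- In a tight group the only radical elements are the root elements. -/
theorem eq_uu_of_rad {M : Subgroup (qAut Q)} (hU : ∀ c, uu E v e c ∈ M) (hT : Tight R M v) {ρ : qAut Q}
    (hρM : ρ ∈ M) (hρ : InRad R v ρ) : ∃ c, ρ = uu E v e c := by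
  have hcomm : ∀ c : K, ρ * uu E v e c = uu E v e c * ρ := fun c => by
    have hfix : FixPerp R v (ρ * uu E v e c * ρ⁻¹ * (uu E v e c)⁻¹) := fun x hx => by
      obtain ⟨k, hk⟩ := (uu_rad E S (-c)).2 x hx
      obtain ⟨l, hl⟩ : ∃ l : K, (ρ⁻¹).1 x = x + l • v := by
        obtain ⟨l, hl⟩ := hρ.2 x hx
        refine ⟨-l, ρ.1.injective ?_⟩
        rw [qApply_inv_self, map_add, hl, hρ.1]
        module
      obtain ⟨k', hk'⟩ := (uu_rad E S c).2 x hx
      obtain ⟨l', hl'⟩ := hρ.2 x hx
      have hl2 : (ρ⁻¹).1 (k • v) = k • v := by conv_lhs => rw [← hρ.1 k, qInv_apply_self]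
      rw [qAut_mul_apply, qAut_mul_apply, qAut_mul_apply, uu_inv E S]
      simp only [map_add, hk, hl, hl2, hk', uu_fix_v E S, hl', hρ.1]
      have e1 : x + k • v + k' • v = x := by
        have h := qApply_inv_self Q (uu E v e c) x
        rw [uu_inv E S, hk, map_add, hk', uu_fix_v E S] at h
        exact (by abel : _ = _).trans h
      have e2 : x + l • v + l' • v = x := by
        have h := qApply_inv_self Q ρ x
        rw [hl, map_add, hl', hρ.1] at h
        exact (by abel : _ = _).trans h
      linear_combination (norm := module) e1 + e2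
    have := hT _ (M.mul_mem (M.mul_mem (M.mul_mem hρM (hU c)) (M.inv_mem hρM)) (M.inv_mem (hU c))) hfix
    rwa [mul_inv_eq_one, mul_inv_eq_iff_eq_mul] at this
  obtain ⟨β, hβ⟩ : ∃ β, β = QuadraticMap.polar R (ρ.1 f) e := ⟨_, rfl⟩
  have hfv : QuadraticMap.polar R (ρ.1 f) v = 1 := by
    refine sub_eq_zero.1 (E.trace_ext fun k => ?_)
    have h := qAut_polar ρ f (k • v)
    rw [hρ.1, E.polar, E.polar, QuadraticMap.polar_smul_right, QuadraticMap.polar_smul_right, S.fv] at h
    rw [mul_sub, map_sub, ← smul_eq_mul, h, smul_eq_mul, sub_self]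
  have hθ : ∀ c : K, ρ.1 (c • e) = c • e - (c * β) • v := fun c => by
    have h : (ρ * uu E v e c).1 f = (uu E v e c * ρ).1 f := by rw [hcomm c]
    rw [qAut_mul_apply, qAut_mul_apply, uu_f E S, map_sub, map_add, hρ.1, uu_apply E S, hfv, ← hβ] at h
    linear_combination (norm := module) h
  obtain ⟨d, hd⟩ : ∃ d, d = -β / (2 * algebraMap F K t) := ⟨_, rfl⟩
  refine ⟨-d, ?_⟩
  have h1 : ρ * uu E v e d = 1 := hT _ (M.mul_mem hρM (hU d)) fun x hx => by
    obtain ⟨a, b, rfl⟩ := S.perp_form hx
    rw [qAut_mul_apply, uu_perp E S, map_sub, map_add, hρ.1, hρ.1, hθ]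
    have : d * b * (2 * algebraMap F K t) = -(b * β) := by
      rw [hd, mul_right_comm, div_mul_cancel₀ _ (mul_ne_zero E.two' S.t0')]; ring
    rw [this]
    module
  rw [← uu_inv E S]
  exact eq_inv_of_mul_eq_one_left h1

end CfsgLib.Classical22.OrthField.Cubic
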