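/-
Semilinear elements of Omega moving singular lines of a three-dimensional space over a cubic extension.
-/
import Cfsg.Agent.Lib.Classical22.OrthFieldThree.Coords

set_option autoImplicit false
set_option linter.all false

namespace CfsgLib.Classical22.OrthField.Cubic

open CfsgLib.Classical

variable {F : Type*} [Field F] {K : Type*} [Field K] [Algebra F K]
variable {V : Type*} [AddCommGroup V] [Module F V] [Module K V] [IsScalarTower F K V]
variable {Q : QuadraticForm F V} {R : QuadraticForm K V}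
variable [Fintype F] [Fintype K] [FiniteDimensional F K] [FiniteDimensional F V] [FiniteDimensional K V]

/-- The hypothesis on the group: it holds the semilinear part of Omega. -/
def SemiMem (K : Type*) [Field K] [Module K V] (M : Subgroup (qAut Q)) : Prop :=
  ∀ g ∈ eichGroup Q, IsSemi K g → g ∈ M

variable (E : Over Q R)
include E

omit [Fintype F] [Fintype K] [FiniteDimensional F K] [FiniteDimensional F V] [FiniteDimensional K V] in
lemma isSemi_lift (g : qAut R) : IsSemi K (E.lift g) := fun k => ⟨k, fun x => by simp⟩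

variable (hn : 5 ≤ Module.finrank F V)
include hn

/-- Lifts of squares are in Omega. -/
lemma lift_sq_mem (g : qAut R) : E.lift (g * g) ∈ eichGroup Q := by
  rw [eichGroup_eq_commutator Q E.polarNondeg hn, map_mul]
  exact Spin.sq_mem_commutator Q E.polarNondeg (Or.inr (by omega)) _

/-- Lifts of two reflections of equal values are in Omega. -/
lemma lift_pair_mem {a b : V} (ha : R a ≠ 0) (hb : R b ≠ 0) (h : R a = R b) :
    E.lift (qRefl R hb * qRefl R ha) ∈ eichGroup Q := by
  obtain ⟨g, hg⟩ := exists_conj_refl R E.nd ha hb h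
  rw [eichGroup_eq_commutator Q E.polarNondeg hn, ← hg, map_mul, map_mul, map_mul, map_inv]
  nth_rewrite 2 [show E.lift (qRefl R ha) = (E.lift (qRefl R ha))⁻¹ by rw [← map_inv, qRefl_inv]]
  exact Subgroup.commutator_mem_commutator (Subgroup.mem_top _) (Subgroup.mem_top _)

variable {v f e : V} {t : F} (S : Std R v f e t)
include S

lemma uu_mem (c : K) : uu E v e c ∈ eichGroup Q := by
  have h2 : (2 : K) * (c / 2) = c := mul_div_cancel₀ c E.two'
  rw [show uu E v e c = E.lift (eich R v ((c / 2) • e) * eich R v ((c / 2) • e)) from ?_]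
  · exact lift_sq_mem E hn _
  · rw [map_mul]
    show _ = uu E v e (c / 2) * uu E v e (c / 2)
    rw [uu_mul E S, ← two_mul, h2]

omit hn in
/-- The swap of the two singular lines. -/
lemma exists_flip : ∃ h : qAut R, h.1 v = -(algebraMap F K t) • f ∧ h.1 f = -(algebraMap F K t)⁻¹ • v ∧
    h.1 e = -e ∧ ∃ a b : V, ∃ (ha : R a ≠ 0) (hb : R b ≠ 0), R a = R b ∧ h = qRefl R hb * qRefl R ha := by
  obtain ⟨τ, hτ⟩ : ∃ τ, τ = algebraMap F K t := ⟨_, rfl⟩
  obtain ⟨a, ha⟩ : ∃ a, a = v + τ • f := ⟨_, rfl⟩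
  have hRa : R a = τ := by
    rw [ha, quad_add, quad_smul, S.sv, S.sf, QuadraticMap.polar_smul_right, S.vf]
    simp
  have hτ0 : τ ≠ 0 := hτ ▸ S.t0'
  have ha0 : R a ≠ 0 := hRa ▸ hτ0
  have he0 : R e ≠ 0 := by rw [S.re, ← hτ]; exact hτ0
  have hva : QuadraticMap.polar R v a = τ := by
    rw [ha, QuadraticMap.polar_add_right, QuadraticMap.polar_smul_right, quad_polar_self, S.sv, S.vf]
    simp
  have hfa : QuadraticMap.polar R f a = 1 := by
    rw [ha, QuadraticMap.polar_add_right, QuadraticMap.polar_smul_right, quad_polar_self, S.sf, S.fv]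
    simp
  refine ⟨qRefl R he0 * qRefl R ha0, ?_, ?_, ?_, a, e, ha0, he0, by rw [hRa, S.re, hτ], rfl⟩
  · rw [qAut_mul_apply, qRefl_apply R ha0, hva, hRa, inv_mul_cancel₀ hτ0, one_smul, ha, sub_add_cancel_left, map_neg,
      map_smul, qRefl_fix R he0 S.fe, ← hτ, neg_smul]
  · rw [qAut_mul_apply, qRefl_apply R ha0, hfa, hRa, mul_one, ha, smul_add, inv_smul_smul₀ hτ0,
      sub_add_cancel_right, map_neg, map_smul, qRefl_fix R he0 S.ve, ← hτ, neg_smul]
  · rw [qAut_mul_apply, qRefl_fix R ha0 (show QuadraticMap.polar R e a = 0 by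
      rw [ha, QuadraticMap.polar_add_right, QuadraticMap.polar_smul_right, QuadraticMap.polar_comm R e v,
        QuadraticMap.polar_comm R e f, S.ve, S.fe]; simp), qRefl_self]

omit hn in
/-- The torus element. -/
lemma exists_tor {s : K} (hs : s ≠ 0) :
    ∃ g : qAut R, g.1 v = s • v ∧ g.1 f = s⁻¹ • f ∧ g.1 e = e := by
  obtain ⟨T, hT⟩ : ∃ T : K → V →ₗ[K] V, ∀ r x, T r x =
      x + ((r - 1) * QuadraticMap.polar R x f) • v + ((r⁻¹ - 1) * QuadraticMap.polar R x v) • f :=
    ⟨fun r => LinearMap.id + ((r - 1) • (QuadraticMap.polarBilin R).flip f).smulRight v +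
      ((r⁻¹ - 1) • (QuadraticMap.polarBilin R).flip v).smulRight f, fun r x => by simp⟩
  have hc : ∀ r a b c, T r (a • v + b • e + c • f) = (r * a) • v + b • e + (r⁻¹ * c) • f := fun r a b c => by
    rw [hT, S.pol_f, S.pol_v]; module
  have hinv : ∀ r, r ≠ 0 → ∀ x, T r⁻¹ (T r x) = x := fun r hr x => by
    obtain ⟨a, b, c, rfl⟩ := S.span x
    rw [hc, hc, inv_inv, ← mul_assoc, inv_mul_cancel₀ hr, one_mul, ← mul_assoc, mul_inv_cancel₀ hr, one_mul]
  refine ⟨⟨LinearEquiv.ofLinear (T s) (T s⁻¹) (LinearMap.ext fun x => ?_) (LinearMap.ext fun x => hinv s hs x),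
    fun x => ?_⟩, ?_, ?_, ?_⟩
  · simpa using hinv s⁻¹ (inv_ne_zero hs) x
  · show R (T s x) = R x
    obtain ⟨a, b, c, rfl⟩ := S.span x
    rw [hc, S.quad, S.quad]
    field_simp
  · show T s v = _
    simpa using hc s 1 0 0
  · show T s f = _
    simpa using hc s 0 0 1
  · show T s e = _
    simpa using hc s 0 1 0

variable {M : Subgroup (qAut Q)} (hM : SemiMem K M)
include hM

lemma uu_mem' (c : K) : uu E v e c ∈ M := hM _ (uu_mem E hn S c) (isSemi_lift E _)

/-- Some semilinear element of `M` carries the line of `v` to any singular line. -/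
theorem exists_to {p : V} (hp : R p = 0) (hp0 : p ≠ 0) :
    ∃ h : qAut R, E.lift h ∈ M ∧ ∃ l : K, l ≠ 0 ∧ h.1 v = l • p := by
  obtain ⟨a, b, c, rfl⟩ := S.span p
  rw [S.quad] at hp
  by_cases hc : c = 0
  · rw [hc, mul_zero, zero_add, mul_eq_zero] at hp
    have hb : b = 0 := mul_self_eq_zero.1 (hp.resolve_right S.t0')
    have ha : a ≠ 0 := fun h => hp0 (by rw [h, hb, hc]; simp)
    refine ⟨1, by rw [map_one]; exact M.one_mem, a⁻¹, inv_ne_zero ha, ?_⟩
    rw [hb, hc, zero_smul, zero_smul, add_zero, add_zero, inv_smul_smul₀ ha]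
    rfl
  obtain ⟨h, hv, -, -, p₁, p₂, hp₁, hp₂, heq, rfl⟩ := exists_flip E S
  refine ⟨eich R v ((b / c) • e) * (qRefl R hp₂ * qRefl R hp₁), ?_, -(algebraMap F K t) / c,
    div_ne_zero (neg_ne_zero.2 S.t0') hc, ?_⟩
  · rw [map_mul]
    exact M.mul_mem (uu_mem' E hn S hM _) (hM _ (lift_pair_mem E hn hp₁ hp₂ heq) (isSemi_lift E _))
  · rw [qAut_mul_apply, hv, map_smul, ← E.lift_apply (eich R v ((b / c) • e))]
    show -(algebraMap F K t) • (uu E v e (b / c)).1 f = _
    rw [uu_f E S]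
    have ha : a = -(b / c * (b / c) * algebraMap F K t * c) := by
      field_simp
      linear_combination hp
    subst ha
    match_scalars <;> field_simp

/-- The torus elements of `M`. -/
theorem exists_tor_mem {s : K} (hs : s ≠ 0) :
    ∃ g : qAut R, E.lift g ∈ M ∧ g.1 v = (s * s) • v ∧ g.1 f = (s * s)⁻¹ • f ∧ g.1 e = e := by
  obtain ⟨g, h1, h2, h3⟩ := exists_tor E S hs
  refine ⟨g * g, hM _ (lift_sq_mem E hn _) (isSemi_lift E _), ?_, ?_, ?_⟩
  · rw [qAut_mul_apply, h1, map_smul, h1, smul_smul]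
  · rw [qAut_mul_apply, h2, map_smul, h2, smul_smul, mul_inv]
  · rw [qAut_mul_apply, h3, h3]

omit hn hM in
/-- Coordinates can be swapped. -/
theorem swap : Std R f v e t :=
  ⟨S.sf, S.sv, S.vf, S.fe, S.ve, S.re, S.t0, fun x => by
    obtain ⟨a, b, c, rfl⟩ := S.span x
    exact ⟨c, b, a, by abel⟩⟩

end CfsgLib.Classical22.OrthField.Cubic
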