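/-
A long root element inside one singular line gives everything.
-/
import Cfsg.Agent.Lib.Classical22.OrthFieldThree.Moves
import Cfsg.Agent.Lib.Classical22.OrthField.Full
import Mathlib.FieldTheory.Finite.Trace

set_option autoImplicit false
set_option linter.all false

namespace CfsgLib.Classical22.OrthField.Cubic

open CfsgLib.Classical

variable {F : Type*} [Field F] {K : Type*} [Field K] [Algebra F K]

/-- A generator of the group of a cubic extension of finite fields. -/
theorem exists_cube_aut [Fintype F] [Fintype K] (hr : Module.finrank F K = 3) :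
    ∃ σ : K ≃ₐ[F] K, (∀ x, σ (σ (σ x)) = x) ∧ (∀ x, algebraMap F K (Algebra.trace F K x) = x + σ x + σ (σ x)) ∧
      ∀ x, σ x = x → ∃ a : F, algebraMap F K a = x := by
  haveI : FiniteDimensional F K := Module.finite_of_finrank_pos (by omega)
  obtain ⟨σ, hσ⟩ : ∃ σ, σ = FiniteField.frobeniusAlgEquivOfAlgebraic F K := ⟨_, rfl⟩
  have h1 : ∀ x, σ x = x ^ Fintype.card F := fun x => by
    rw [hσ, FiniteField.coe_frobeniusAlgEquivOfAlgebraic]
  have ho : σ ^ 3 = 1 := by
    rw [← hr, hσ, ← FiniteField.orderOf_frobeniusAlgEquivOfAlgebraic F K]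
    exact pow_orderOf_eq_one _
  have h3 : ∀ x, σ (σ (σ x)) = x := fun x => by
    have := DFunLike.congr_fun ho x
    simpa [pow_succ] using this
  have htr : ∀ x, algebraMap F K (Algebra.trace F K x) = x + σ x + σ (σ x) := fun x => by
    rw [FiniteField.algebraMap_trace_eq_sum_pow, hr, Finset.sum_range_succ, Finset.sum_range_succ,
      Finset.sum_range_one, Nat.card_eq_fintype_card, pow_zero, pow_one, pow_one, h1, h1, ← pow_mul, ← pow_two]
  refine ⟨σ, h3, htr, fun x hx => ?_⟩
  by_cases h30 : (3 : F) = 0
  · have hall : ∀ y : K, ∀ n : ℕ, (σ ^ n) x = x := fun y n => by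
      induction n with
      | zero => rfl
      | succ n ih => rw [pow_succ, AlgEquiv.mul_apply, hx, ih]
    haveI : IsGalois F K := inferInstance
    refine IntermediateField.mem_bot.1 ((IsGalois.mem_bot_iff_fixed x).2 fun τ => ?_)
    obtain ⟨n, hn⟩ := (FiniteField.bijective_frobeniusAlgEquivOfAlgebraic_pow F K).2 τ
    rw [← hn, ← hσ]
    exact hall x n
  · refine ⟨(3 : F)⁻¹ * Algebra.trace F K x, ?_⟩
    rw [map_mul, htr, hx, hx, map_inv₀, map_ofNat,
      show x + x + x = 3 * x by ring, ← mul_assoc, inv_mul_cancel₀, one_mul]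
    intro h
    exact h30 ((algebraMap F K).injective (by rw [map_ofNat, h, map_zero]))

variable [Fintype F] [Fintype K]

/-- Differences of squares. -/
lemma eq_sq_sub (h2 : (2 : K) ≠ 0) (x : K) : x = ((x + 1) / 2) * ((x + 1) / 2) - ((x - 1) / 2) * ((x - 1) / 2) := by
  field_simp
  ring

/-- An additive group stable under the products `s^2 σ(s^2)` is everything or zero. -/
theorem eq_top_of_norm_stable (hr : Module.finrank F K = 3) (σ : K ≃ₐ[F] K)
    (h3 : ∀ x, σ (σ (σ x)) = x) {A : AddSubgroup K} {a₀ : K} (ha₀ : a₀ ∈ A) (ha0 : a₀ ≠ 0)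
    (hA : ∀ a ∈ A, ∀ s : K, s ≠ 0 → a * ((s * s) * σ (s * s)) ∈ A) (x : K) : x ∈ A := by
  classical
  let B : Subring K :=
    { carrier := {c | ∀ a ∈ A, a * c ∈ A}
      mul_mem' := fun {c d} hc hd a ha => by rw [← mul_assoc]; exact hd _ (hc a ha)
      one_mem' := fun a ha => by rwa [mul_one]
      add_mem' := fun {c d} hc hd a ha => by rw [mul_add]; exact A.add_mem (hc a ha) (hd a ha)
      zero_mem' := fun a _ => by rw [mul_zero]; exact A.zero_mem
      neg_mem' := fun {c} hc a ha => by rw [mul_neg]; exact A.neg_mem (hc a ha) }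
  have hfour : ∀ y : K, y ^ 4 ∈ B := fun y a ha => by
    by_cases hy : y = 0
    · simp [hy]
    have hy1 : σ y ≠ 0 := (map_ne_zero σ).2 hy
    have hy2 : σ (σ y) ≠ 0 := (map_ne_zero σ).2 hy1
    have := hA a ha (y * σ (σ y) / σ y) (div_ne_zero (mul_ne_zero hy hy2) hy1)
    convert this using 2
    simp only [map_mul, map_div₀, h3]
    field_simp
  letI : Field B := Fintype.fieldOfDomain B
  have hpow : Nat.card K = Nat.card B ^ Module.finrank B K := Module.natCard_eq_pow_finrank (K := B) (V := K)
  have hBtop : Module.finrank B K = 1 := by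
    by_contra hne
    have hd : 2 ≤ Module.finrank B K := by
      have : 0 < Module.finrank B K := Module.finrank_pos
      omega
    have hB : 1 < Nat.card B := Finite.one_lt_card
    have hsq : Nat.card B * Nat.card B ≤ Nat.card K := by
      rw [hpow, ← sq]; exact Nat.pow_le_pow_right (by omega) hd
    -- fourth powers fill a quarter
    have h4 : Nat.card K ≤ 4 * Nat.card B := by
      rw [Nat.card_eq_fintype_card, Nat.card_eq_fintype_card, ← Finset.card_univ]
      refine Finset.card_le_mul_card_image_of_maps_to (f := fun y : K => (⟨y ^ 4, hfour y⟩ : B))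
        (t := Finset.univ) (fun _ _ => Finset.mem_univ _) 4 fun b _ => ?_
      calc _ ≤ ((Polynomial.nthRoots 4 (b : K)).toFinset).card := Finset.card_le_card fun y hy => by
            simp only [Finset.mem_filter, Finset.mem_univ, true_and] at hy
            rw [Multiset.mem_toFinset, Polynomial.mem_nthRoots (by norm_num)]
            exact congrArg Subtype.val hy
        _ ≤ _ := (Multiset.toFinset_card_le _).trans (Polynomial.card_nthRoots 4 _)
    have h27 : 27 ≤ Nat.card K ∨ Fintype.card F = 2 := by
      have hq : 1 < Fintype.card F := Fintype.one_lt_card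
      rcases Nat.lt_or_ge (Fintype.card F) 3 with h | h
      · exact Or.inr (by omega)
      · refine Or.inl ?_
        rw [Nat.card_eq_fintype_card, Module.card_eq_pow_finrank (K := F) (V := K), hr]
        exact le_trans (by norm_num) (Nat.pow_le_pow_left h 3)
    rcases h27 with h27 | h2
    · nlinarith
    · have h8 : Nat.card K = 8 := by
        rw [Nat.card_eq_fintype_card, Module.card_eq_pow_finrank (K := F) (V := K), hr, h2]; rfl
      -- in characteristic two the map is a bijection
      have hinj : Function.Injective fun y : K => (⟨y ^ 4, hfour y⟩ : B) := fun y z h => by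
        haveI : CharP F 2 := charP_of_card_eq_prime h2
        haveI : CharP K 2 := charP_of_injective_algebraMap (algebraMap F K).injective 2
        have h' : y ^ 4 = z ^ 4 := congrArg Subtype.val h
        exact frobenius_inj K 2 (frobenius_inj K 2 (by simpa [frobenius_def, ← pow_mul] using h'))
      have := Nat.card_le_card_of_injective _ hinj
      nlinarith
  have hmem : x / a₀ ∈ B := by
    obtain ⟨c, hc⟩ := (finrank_eq_one_iff_of_nonzero' (1 : K) one_ne_zero).1 hBtop (x / a₀)
    rw [← hc, Subring.smul_def, smul_eq_mul, mul_one]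
    exact c.2
  have := hmem a₀ ha₀
  rwa [mul_div_cancel₀ _ ha0] at this

omit [Fintype F] [Fintype K] in
/-- The skew map with coefficient `a`. -/
noncomputable def skewMap (σ : K ≃ₐ[F] K) : K →ₗ[F] K →ₗ[F] K :=
  LinearMap.mk₂ F (fun a x => a * σ x - σ (σ a) * σ (σ x))
    (fun a b x => by simp only [map_add]; ring)
    (fun c a x => by simp only [map_smul, Algebra.smul_def, map_mul, AlgEquiv.commutes]; ring)
    (fun a x y => by simp only [map_add]; ring)
    (fun c a x => by simp only [map_smul, Algebra.smul_def, map_mul, AlgEquiv.commutes]; ring)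

lemma skewMap_apply (σ : K ≃ₐ[F] K) (a x : K) : skewMap σ a x = a * σ x - σ (σ a) * σ (σ x) := rfl

/-- Every skew map of a cubic extension has the standard shape. -/
theorem exists_skewMap (hr : Module.finrank F K = 3) (h2 : (2 : F) ≠ 0) (σ : K ≃ₐ[F] K)
    (h3 : ∀ x, σ (σ (σ x)) = x) (hfix : ∀ x, σ x = x → ∃ a : F, algebraMap F K a = x)
    (htr : ∀ x, algebraMap F K (Algebra.trace F K x) = x + σ x + σ (σ x)) {X : K →ₗ[F] K}
    (hX : ∀ a b, Algebra.trace F K (X a * b) + Algebra.trace F K (a * X b) = 0) : ∃ a, skewMap σ a = X := by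
  haveI : FiniteDimensional F K := Module.finite_of_finrank_pos (by omega)
  let S0 : Submodule F (K →ₗ[F] K) :=
    { carrier := {X | ∀ a b, Algebra.trace F K (X a * b) + Algebra.trace F K (a * X b) = 0}
      add_mem' := fun {X Y} hX hY a b => by
        simp only [LinearMap.add_apply, add_mul, mul_add, map_add]
        linear_combination hX a b + hY a b
      zero_mem' := fun a b => by simp
      smul_mem' := fun c X hX a b => by
        simp only [LinearMap.smul_apply, smul_mul_assoc, mul_smul_comm, map_smul, smul_eq_mul]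
        linear_combination c * hX a b }
  let bK := Module.finBasisOfFinrankEq F K hr
  let Φ : S0 →ₗ[F] (Fin 3 → F) :=
    { toFun := fun X i => Algebra.trace F K (X.1 (bK i) * bK (i + 1))
      map_add' := fun X Y => funext fun i => by simp [add_mul]
      map_smul' := fun c X => funext fun i => by simp [smul_mul_assoc] }
  have hΦ : Function.Injective Φ := (injective_iff_map_eq_zero _).2 fun X h => by
    have hd : ∀ i, Algebra.trace F K (X.1 (bK i) * bK i) = 0 := fun i => by
      have := X.2 (bK i) (bK i)
      rw [mul_comm (bK i) (X.1 (bK i)), ← two_mul, mul_eq_zero] at this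
      exact this.resolve_left h2
    have hs : ∀ i, Algebra.trace F K (X.1 (bK i) * bK (i + 1)) = 0 := fun i => congrFun h i
    have ht : ∀ i, Algebra.trace F K (X.1 (bK (i + 1)) * bK i) = 0 := fun i => by
      have := X.2 (bK i) (bK (i + 1))
      rw [hs, zero_add, mul_comm] at this
      exact this
    refine Subtype.ext (bK.ext fun i => ?_)
    show X.1 (bK i) = 0
    refine (traceForm_nondegenerate F K).1 _ fun y => ?_
    rw [← bK.sum_repr y, map_sum]
    refine Finset.sum_eq_zero fun j _ => ?_
    rw [map_smul, Algebra.traceForm_apply]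
    suffices h : Algebra.trace F K (X.1 (bK i) * bK j) = 0 by rw [h, smul_zero]
    rcases (show j = i ∨ j = i + 1 ∨ i = j + 1 by revert i j; decide) with rfl | rfl | rfl
    · exact hd _
    · exact hs _
    · exact ht _
  have hmem : ∀ a, skewMap σ a ∈ S0 := fun a x y => (algebraMap F K).injective (by
    rw [map_add, htr, htr, map_zero, skewMap_apply, skewMap_apply]
    simp only [map_sub, map_mul, h3]
    ring)
  let Ψ : K →ₗ[F] S0 := (skewMap σ).codRestrict S0 hmem
  have hΨ : Function.Injective Ψ := (injective_iff_map_eq_zero _).2 fun a h => by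
    have hv : ∀ x, a * σ x - σ (σ a) * σ (σ x) = 0 := fun x => by
      rw [← skewMap_apply, show skewMap σ a = 0 from congrArg Subtype.val h]; rfl
    by_contra ha
    have h1 := hv 1
    rw [map_one, map_one, mul_one, mul_one, sub_eq_zero] at h1
    obtain ⟨x, hx⟩ : ∃ x : K, σ x ≠ x := by
      by_contra hc
      push Not at hc
      have hsurj : (⊤ : Submodule F K) ≤ Submodule.span F {(1 : K)} := fun x _ => by
        obtain ⟨c, hc⟩ := hfix x (hc x)
        exact Submodule.mem_span_singleton.2 ⟨c, by rw [← hc, Algebra.smul_def, mul_one]⟩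
      have := Submodule.finrank_mono hsurj
      rw [finrank_top, hr, finrank_span_singleton one_ne_zero] at this
      omega
    have h2' := hv (σ (σ x))
    rw [← h1, h3, ← mul_sub, mul_eq_zero, sub_eq_zero] at h2'
    exact hx (h2'.resolve_left ha).symm
  have hdim : Module.finrank F K = Module.finrank F S0 := le_antisymm
    (LinearMap.finrank_le_finrank_of_injective hΨ)
    (by have := LinearMap.finrank_le_finrank_of_injective hΦ; rw [Module.finrank_fin_fun] at this; omega)
  obtain ⟨a, ha⟩ := (LinearMap.injective_iff_surjective_of_finrank_eq_finrank hdim (f := Ψ)).1 hΨ (⟨X, hX⟩ : S0)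
  exact ⟨a, congrArg Subtype.val ha⟩

variable {V : Type*} [AddCommGroup V] [Module F V] [Module K V] [IsScalarTower F K V]
variable {Q : QuadraticForm F V} {R : QuadraticForm K V} {M : Subgroup (qAut Q)}
variable [FiniteDimensional F K] [FiniteDimensional F V] [FiniteDimensional K V]
variable (E : Over Q R) (hn : 5 ≤ Module.finrank F V) {v f e : V} {t : F} (S : Std R v f e t) (hM : SemiMem K M)
include E hn S hM

/-- Long root elements inside every singular line. -/
theorem line_full (hr : Module.finrank F K = 3) {g : qAut Q} (hg : g ∈ M) (hfix : FixPerp R v g) (hg1 : g ≠ 1)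
    {p : V} (hp : R p = 0) (hp0 : p ≠ 0) (a b : K) : eich Q (a • p) (b • p) ∈ M := by
  obtain ⟨σ, h3, htr, hσ⟩ := exists_cube_aut (F := F) hr
  obtain ⟨X, hX⟩ : ∃ X : K →ₗ[F] K, ∀ k, X k = QuadraticMap.polar R (g.1 (k • f) - k • f) f :=
    ⟨((QuadraticMap.polarBilin R).flip f).restrictScalars F ∘ₗ (g.1.toLinearMap - LinearMap.id) ∘ₗ
      (LinearMap.toSpanSingleton K V f).restrictScalars F, fun k => by simp⟩
  have hgf : ∀ k : K, g.1 (k • f) = k • f + X k • v := fun k => by
    obtain ⟨l, hl⟩ := long_of_fixPerp E S hfix (k • f)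
    rw [hX, hl, add_sub_cancel_left, QuadraticMap.polar_smul_left, S.vf, smul_eq_mul, mul_one]
  have hgx : ∀ x, g.1 x = x + X (QuadraticMap.polar R x v) • v := fun x => by
    obtain ⟨a, b, c, rfl⟩ := S.span x
    rw [S.pol_v, map_add, hgf, hfix (a • v + b • e) (by
      have h := S.pol_v a b 0
      rwa [zero_smul, add_zero] at h)]
    abel
  have hLX : Long R M v X := ⟨g, hg, hgx⟩
  obtain ⟨a₀, ha₀⟩ := exists_skewMap hr E.two σ h3 hσ htr (E.long_skew S.sv S.v0 hLX)
  let A : AddSubgroup K :=
    { carrier := {a | Long R M v (skewMap σ a)}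
      add_mem' := fun {a b} ha hb => by
        show Long R M v _
        rw [map_add]; exact Over.long_add S.sv ha hb
      zero_mem' := by
        show Long R M v _
        exact ⟨1, M.one_mem, fun x => by rw [map_zero, LinearMap.zero_apply, zero_smul, add_zero]; rfl⟩
      neg_mem' := fun {a} ha => by
        show Long R M v _
        rw [map_neg]; exact Over.long_neg S.sv ha }
  have hall : ∀ a, Long R M v (skewMap σ a) := by
    refine eq_top_of_norm_stable hr σ h3 (A := A) (a₀ := a₀) (show Long R M v _ by rw [ha₀]; exact hLX) (fun h => ?_)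
      fun a ha s hs => ?_
    · rw [h, map_zero] at ha₀
      exact hg1 (qAut_ext fun x => by rw [hgx, ← ha₀, LinearMap.zero_apply, zero_smul, add_zero]; rfl)
    obtain ⟨h, hhM, hhv, -, -⟩ := exists_tor_mem E hn S hM hs
    obtain ⟨y, hy, he⟩ : Long R M v (skewMap σ a) := ha
    refine ⟨E.lift h * y * (E.lift h)⁻¹, M.mul_mem (M.mul_mem hhM hy) (M.inv_mem hhM), fun x => ?_⟩
    obtain ⟨x', rfl⟩ : ∃ x', h.1 x' = x := ⟨(h⁻¹).1 x, qApply_inv_self R h x⟩
    have e1 : ((E.lift h)⁻¹).1 (h.1 x') = x' := by rw [← E.lift_apply, qInv_apply_self]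
    have e2 : (s * s) * QuadraticMap.polar R (h.1 x') v = QuadraticMap.polar R x' v := by
      rw [← qAut_polar h x' v, hhv, QuadraticMap.polar_smul_right, smul_eq_mul]
    rw [qAut_mul_apply, qAut_mul_apply, e1, he, Over.lift_apply, map_add, map_smul, hhv, smul_smul, skewMap_apply,
      skewMap_apply, ← e2]
    congr 2
    simp only [map_mul, h3]
    ring
  -- at the line of `v`
  have hline : ∀ a b : K, eich Q (a • v) (b • v) ∈ M := fun a b => by
    obtain ⟨y, hy, he⟩ := hall (b * σ a - a * σ b)
    have hp : QuadraticMap.polar Q (a • v) (b • v) = 0 := E.polar_zero (by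
      simp [QuadraticMap.polar_smul_left, QuadraticMap.polar_smul_right, quad_polar_self, S.sv])
    rw [show eich Q (a • v) (b • v) = y from qAut_ext fun x => ?_]
    · exact hy
    rw [eich_apply Q (E.sing S.sv a) hp, E.sing S.sv b, zero_mul, add_zero, E.polar, E.polar,
      QuadraticMap.polar_smul_right, QuadraticMap.polar_smul_right, he, skewMap_apply,
      ← algebraMap_smul K (Algebra.trace F K _) (a • v), ← algebraMap_smul K (Algebra.trace F K _) (b • v), htr, htr, smul_smul, smul_smul, add_sub_assoc, ← sub_smul]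
    congr 2
    simp only [smul_eq_mul, map_sub, map_mul, h3]
    ring
  obtain ⟨h, hhM, l, hl, hhv⟩ := exists_to E hn S hM hp hp0
  have e := eich_conj Q (E.lift h) (E.sing S.sv (a / l)) (w := (b / l) • v) (E.polar_zero (by
    simp [QuadraticMap.polar_smul_left, QuadraticMap.polar_smul_right, quad_polar_self, S.sv]))
  rw [Over.lift_apply, Over.lift_apply, map_smul, map_smul, hhv, smul_smul, smul_smul, div_mul_cancel₀ _ hl,
    div_mul_cancel₀ _ hl] at e
  exact e ▸ M.mul_mem (M.mul_mem hhM (hline _ _)) (M.inv_mem hhM)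

/-- A long root element inside a singular line gives all of Omega. -/
theorem eichGroup_le_of_long (hr : Module.finrank F K = 3) {g : qAut Q} (hg : g ∈ M) (hfix : FixPerp R v g)
    (hg1 : g ≠ 1) : eichGroup Q ≤ M := by
  classical
  have hline := fun {p : V} (hp : R p = 0) (hp0 : p ≠ 0) => line_full E hn S hM hr hg hfix hg1 hp hp0
  have hQv := E.quad_zero S.sv
  obtain ⟨C, hC⟩ : ∃ C, C = cen Q M hQv := ⟨_, rfl⟩
  have hL : ∀ k : K, k • v ∈ C := fun k => hC ▸ ⟨E.polar_zero (by
    simp [QuadraticMap.polar_smul_right, quad_polar_self, S.sv]), by simpa using hline S.sv S.v0 1 k⟩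
  have hdim0 : Module.finrank F (LinearMap.ker (Algebra.trace F K)) = 2 := by
    have h1 := LinearMap.finrank_range_add_finrank_ker (Algebra.trace F K)
    rw [LinearMap.range_eq_top.2 (Algebra.trace_surjective F K), finrank_top, Module.finrank_self, hr] at h1
    omega
  have hoff : ∀ b : K, Algebra.trace F K b = 0 → b • f ∈ C := fun b hb => by
    by_cases hb0 : b = 0
    · rw [hb0, zero_smul]; exact C.zero_mem
    obtain ⟨a, ha, hab⟩ : ∃ a ∈ LinearMap.ker (Algebra.trace F K), a ∉ Submodule.span F {b} :=
      SetLike.not_le_iff_exists.1 fun hle => by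
        have := Submodule.finrank_mono hle
        rw [hdim0, finrank_span_singleton hb0] at this
        omega
    have ha' := LinearMap.mem_ker.1 ha
    obtain ⟨k, hka, hkb⟩ : ∃ k, Algebra.trace F K (k * a) = 1 ∧ Algebra.trace F K (k * b) = 0 := by
      obtain ⟨φ, hφa, hφb⟩ := Submodule.exists_le_ker_of_notMem hab
      obtain ⟨k₀, hk₀⟩ := ((Algebra.traceForm F K).toDual (traceForm_nondegenerate F K)).surjective φ
      have h : ∀ y, Algebra.trace F K (k₀ * y) = φ y := fun y => by
        rw [← Algebra.traceForm_apply, ← LinearMap.BilinForm.toDual_def (b := traceForm_nondegenerate F K), hk₀]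
      refine ⟨(φ a)⁻¹ • k₀, ?_, ?_⟩
      · rw [smul_mul_assoc, map_smul, h, smul_eq_mul, inv_mul_cancel₀ hφa]
      · rw [smul_mul_assoc, map_smul, h, LinearMap.mem_ker.1 (hφb (Submodule.mem_span_singleton_self b)), smul_zero]
    have hp : QuadraticMap.polar Q (a • f) (b • f) = 0 := E.polar_zero (by
      simp [QuadraticMap.polar_smul_left, QuadraticMap.polar_smul_right, quad_polar_self, S.sf])
    have hpol : ∀ c d : K, QuadraticMap.polar Q (c • v) (d • f) = Algebra.trace F K (c * d) := fun c d => by
      rw [E.polar, QuadraticMap.polar_smul_left, QuadraticMap.polar_smul_right, S.vf]; simp [mul_comm]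
    have hfixv : (eich Q (a • f) (b • f)).1 v = v := by
      have h1 := hpol 1 a
      have h2' := hpol 1 b
      rw [one_smul, one_mul] at h1 h2'
      rw [eich_apply Q (E.sing S.sf a) hp, h1, h2', ha', hb]
      simp
    have h := cen_move (hC ▸ hL k) (hline S.sf S.f0 a b) hfixv
    rw [eich_apply Q (E.sing S.sf a) hp, hpol, hpol, hka, hkb, E.sing S.sf b, zero_mul, add_zero, zero_smul,
      one_smul, sub_zero, add_sub_cancel_left] at h
    exact hC ▸ h
  have hmid : ∀ k : K, k • e ∈ C := fun k => by
    obtain ⟨b, hb, hb0⟩ := Submodule.exists_mem_ne_zero_of_ne_bot (p := LinearMap.ker (Algebra.trace F K))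
      fun h => by rw [h, finrank_bot] at hdim0; omega
    have h := cen_move (hC ▸ hoff b (LinearMap.mem_ker.1 hb)) (uu_mem' E hn S hM (k / b))
      (by simpa using uu_fix_v E S (k / b) 1)
    rw [uu_apply E S, QuadraticMap.polar_smul_left, QuadraticMap.polar_smul_left, S.fv, S.fe] at h
    have h' := (hC ▸ h : _ ∈ C)
    have h'' := C.add_mem h' (hL ((k / b) * (k / b) * algebraMap F K t * b))
    convert h'' using 1
    simp only [smul_eq_mul, mul_one, mul_zero, zero_add, mul_div_cancel₀ _ hb0]
    module
  have hfull : EFull Q M v := fun w hw => by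
    obtain ⟨a, b, c, rfl⟩ := S.span w
    rw [E.polar, QuadraticMap.polar_comm, S.pol_v] at hw
    have := C.add_mem (C.add_mem (hL a) (hmid b)) (hoff c hw)
    rw [hC] at this
    exact this.2
  obtain ⟨h, hv, -, -, p₁, p₂, hp₁, hp₂, heq, rfl⟩ := exists_flip E S
  obtain ⟨s, hs⟩ : ∃ s : K, Algebra.trace F K (algebraMap F K t * (s * s)) ≠ 0 := by
    by_contra hc
    push Not at hc
    obtain ⟨x, hx⟩ := Algebra.trace_surjective F K 1
    refine S.t0 ?_
    have h1 : Algebra.trace F K (algebraMap F K t * x) = 0 := by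
      rw [eq_sq_sub E.two' x, mul_sub, map_sub, hc, hc, sub_zero]
    rw [← Algebra.smul_def, map_smul, hx, smul_eq_mul, mul_one] at h1
    exact h1
  have hs0 : s ≠ 0 := fun h => hs (by rw [h]; simp)
  obtain ⟨g', hg'M, hg'v, -, -⟩ := exists_tor_mem E hn S hM hs0
  have hMel : E.lift (qRefl R hp₂ * qRefl R hp₁) * E.lift g' ∈ M :=
    M.mul_mem (hM _ (lift_pair_mem E hn hp₁ hp₂ heq) (isSemi_lift E _)) hg'M
  have hfull' := efull_conj Q hMel hQv hfull
  rw [qAut_mul_apply, Over.lift_apply, Over.lift_apply, hg'v, map_smul, hv, smul_smul] at hfull'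
  refine eichGroup_le_of_full Q E.polarNondeg (by omega) hQv (E.sing S.sf _) ?_ hfull hfull'
  rw [E.polar, QuadraticMap.polar_smul_right, S.vf, smul_eq_mul, mul_one, mul_neg, map_neg, neg_ne_zero, mul_comm]
  exact hs

end CfsgLib.Classical22.OrthField.Cubic
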