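/-
The stabiliser of a singular line in a tight group is semilinear with trivial signs.
-/
import Cfsg.Agent.Lib.Classical22.OrthFieldThree.Long
import Cfsg.Agent.Lib.Classical22.OrthTypeInvolution

set_option autoImplicit false
set_option linter.all false

namespace CfsgLib.Classical22.OrthField.Cubic

open CfsgLib.Classical

universe u

variable {F : Type u} [Field F] {K : Type*} [Field K] [Algebra F K]
variable {V : Type u} [AddCommGroup V] [Module F V] [Module K V] [IsScalarTower F K V]
variable {Q : QuadraticForm F V} {R : QuadraticForm K V} {M : Subgroup (qAut Q)}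

/-- The line of `v` over the ground field. -/
noncomputable def lineF (F : Type*) [Field F] {K : Type*} [Field K] [Algebra F K] {V : Type*} [AddCommGroup V]
    [Module F V] [Module K V] [IsScalarTower F K V] (v : V) : Submodule F V :=
  (Submodule.span K {v}).restrictScalars F

lemma mem_lineF {v x : V} : x ∈ lineF F (K := K) v ↔ ∃ k : K, k • v = x := Submodule.mem_span_singleton

/-- The action of an element of the stabiliser of the line on the line and on its perp modulo the line. -/
structure Act (R : QuadraticForm K V) (v e : V) (x : qAut Q) (l : K) (s : K ≃ₐ[F] K) (b : K) : Prop where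
  line : ∀ k : K, x.1 (k • v) = (l * s k) • v
  mid : ∀ k : K, ∃ a : K, x.1 (k • e) = a • v + (b * s k) • e

variable [Fintype F] [Fintype K] [FiniteDimensional F K] [FiniteDimensional F V] [FiniteDimensional K V]
variable (E : Over Q R) {v f e : V} {t : F} (S : Std R v f e t)

omit [Fintype F] [Fintype K] [FiniteDimensional F K] [FiniteDimensional F V] [FiniteDimensional K V] in
theorem act_mul {x y : qAut Q} {l l' b b' : K} {s s' : K ≃ₐ[F] K} (hx : Act R v e x l s b)
    (hy : Act R v e y l' s' b') : Act R v e (x * y) (l * s l') (s * s') (b * s b') := by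
  refine ⟨fun k => ?_, fun k => ?_⟩
  · rw [qAut_mul_apply, hy.line, hx.line, map_mul, ← mul_assoc]; rfl
  · obtain ⟨a, ha⟩ := hy.mid k
    obtain ⟨a', ha'⟩ := hx.mid (b' * s' k)
    refine ⟨l * s a + a', ?_⟩
    rw [qAut_mul_apply, ha, map_add, hx.line, ha', map_mul, AlgEquiv.mul_apply, mul_assoc b, add_smul, add_assoc]

omit [Fintype F] [Fintype K] [FiniteDimensional F K] [FiniteDimensional F V] [FiniteDimensional K V] in
theorem act_one : Act R v e (1 : qAut Q) (1 : K) (1 : K ≃ₐ[F] K) 1 :=
  ⟨fun k => by rw [one_mul]; rfl, fun k => ⟨0, by rw [zero_smul, zero_add, one_mul]; rfl⟩⟩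

omit [Fintype F] [Fintype K] [FiniteDimensional F K] [FiniteDimensional F V] [FiniteDimensional K V] in
theorem act_pow {x : qAut Q} {s : K ≃ₐ[F] K} {l b : K} (hx : Act R v e x l s b) (hl : s l = l) (hb : s b = b) :
    ∀ n : ℕ, Act R v e (x ^ n) (l ^ n) (s ^ n) (b ^ n)
  | 0 => by simpa only [pow_zero] using act_one
  | n + 1 => by
    have h := act_mul (act_pow hx hl hb n) hx
    have h1 : ∀ n : ℕ, ∀ z, s z = z → (s ^ n) z = z := fun n z hz => by
      induction n with
      | zero => rfl
      | succ n ih => rw [pow_succ, AlgEquiv.mul_apply, hz, ih]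
    rwa [h1 n l hl, h1 n b hb, ← pow_succ, ← pow_succ, ← pow_succ, ← pow_succ] at h

omit [Fintype F] in
/-- The degree three group. -/
theorem aut_pow_three (hr : Module.finrank F K = 3) (s : K ≃ₐ[F] K) : s ^ 3 = 1 := by
  haveI : Finite F := Finite.of_injective _ (algebraMap F K).injective
  have h : Nat.card (K ≃ₐ[F] K) = 3 := by rw [IsGalois.card_aut_eq_finrank, hr]
  rw [← h]
  exact pow_card_eq_one'

include E S

omit [Fintype F] [Fintype K] [FiniteDimensional F K] [FiniteDimensional F V] [FiniteDimensional K V] in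
theorem act_uu (c : K) : Act R v e (uu E v e c) (1 : K) (1 : K ≃ₐ[F] K) 1 := by
  refine ⟨fun k => by rw [uu_fix_v E S, one_mul]; rfl, fun k => ⟨-(c * k * (2 * algebraMap F K t)), ?_⟩⟩
  have h := uu_perp E S c 0 k
  rw [zero_smul, zero_add] at h
  rw [h, one_mul, AlgEquiv.one_apply]
  module

omit [Fintype F] [Fintype K] [FiniteDimensional F K] [FiniteDimensional F V] [FiniteDimensional K V] in
theorem act_unique {x : qAut Q} {l : K} {s s' : K ≃ₐ[F] K} {b b' : K} {l' : K} (h : Act R v e x l s b)
    (h' : Act R v e x l' s' b') (hl : l ≠ 0) : l = l' ∧ s = s' := by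
  have h1 : ∀ k, l * s k = l' * s' k := fun k =>
    smul_left_injective K S.v0 ((h.line k).symm.trans (h'.line k))
  have h2 := h1 1
  rw [map_one, map_one, mul_one, mul_one] at h2
  exact ⟨h2, AlgEquiv.ext fun k => mul_left_cancel₀ hl (by rw [h1, h2])⟩

omit [Fintype F] [Fintype K] [FiniteDimensional F K] [FiniteDimensional F V] [FiniteDimensional K V] in
theorem act_qStab [FiniteDimensional F V] {x : qAut Q} {l : K} {s : K ≃ₐ[F] K} {b : K} (h : Act R v e x l s b) :
    x ∈ qStab Q (lineF F (K := K) v) := mem_qStab_of_maps Q fun z hz => by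
  obtain ⟨k, rfl⟩ := mem_lineF.1 hz
  exact mem_lineF.2 ⟨_, (h.line k).symm⟩

omit [Fintype F] [Fintype K] [FiniteDimensional F K] [FiniteDimensional F V] [FiniteDimensional K V] in
/-- Trivial action is radical. -/
theorem rad_of_act {x : qAut Q} (h : Act R v e x 1 (1 : K ≃ₐ[F] K) 1) : InRad R v x := by
  refine ⟨fun k => by rw [h.line, one_mul]; rfl, fun z hz => ?_⟩
  obtain ⟨a, b, rfl⟩ := S.perp_form hz
  obtain ⟨a', ha'⟩ := h.mid b
  refine ⟨a', ?_⟩
  rw [map_add, h.line, ha', one_mul, one_mul, AlgEquiv.one_apply, AlgEquiv.one_apply]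
  abel

variable (hn : 5 ≤ Module.finrank F V) (hM : SemiMem K M) (hT : Tight R M v)
include hn hM hT

omit [Fintype F] in
/-- An element of a tight group stabilising the line acts semilinearly. -/
theorem exists_act [Fintype F] {x : qAut Q} (hx : x ∈ M) (hst : x ∈ qStab Q (lineF F (K := K) v)) :
    ∃ l : K, l ≠ 0 ∧ ∃ (s : K ≃ₐ[F] K) (b : K), Act R v e x l s b ∧ b * b = 1 := by
  obtain ⟨τ, hτ⟩ : ∃ τ, τ = algebraMap F K t := ⟨_, rfl⟩
  have hline : ∀ g : qAut Q, g ∈ qStab Q (lineF F (K := K) v) → ∀ k : K, ∃ k' : K, g.1 (k • v) = k' • v :=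
    fun g hg k => by
      obtain ⟨k', hk'⟩ := mem_lineF.1 (apply_mem_of_qStab Q hg (mem_lineF.2 ⟨k, rfl⟩))
      exact ⟨k', hk'.symm⟩
  have hperp : ∀ g : qAut Q, g ∈ qStab Q (lineF F (K := K) v) → ∀ y, QuadraticMap.polar R y v = 0 →
      QuadraticMap.polar R (g.1 y) v = 0 := fun g hg y hy => E.trace_ext fun k => by
    obtain ⟨k', hk'⟩ := hline g⁻¹ (inv_mem hg) k
    rw [← smul_eq_mul, ← QuadraticMap.polar_smul_right, ← E.polar, ← qApply_inv_self Q g (k • v), qAut_polar, hk',
      E.polar, QuadraticMap.polar_smul_right, hy, smul_zero, map_zero]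
  choose A hA using hline x hst
  have hB' : ∀ k : K, ∃ a b : K, x.1 (k • e) = a • v + b • e := fun k =>
    S.perp_form (hperp x hst _ (perp_vec S k))
  choose β B hB using hB'
  have hφ : ∀ c : K, ∃ c', x * uu E v e c * x⁻¹ = uu E v e c' := fun c => by
    refine eq_uu_of_rad E S (uu_mem' E hn S hM) hT
      (M.mul_mem (M.mul_mem hx (uu_mem' E hn S hM c)) (M.inv_mem hx)) ⟨fun k => ?_, fun y hy => ?_⟩
    · obtain ⟨k', hk'⟩ := hline x⁻¹ (inv_mem hst) k
      rw [qAut_mul_apply, qAut_mul_apply, hk', uu_fix_v E S, ← hk', qApply_inv_self]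
    · obtain ⟨k, hk⟩ := (uu_rad E S c).2 _ (hperp x⁻¹ (inv_mem hst) y hy)
      exact ⟨A k, by rw [qAut_mul_apply, qAut_mul_apply, hk, map_add, qApply_inv_self, hA]⟩
  choose φ hφ using hφ
  have hrel : ∀ c k : K, A (c * k) = φ c * B k := fun c k => by
    have h : (x * uu E v e c).1 (k • e) = (uu E v e (φ c) * x).1 (k • e) := by
      rw [show x * uu E v e c = uu E v e (φ c) * x by rw [← hφ]; group]
    have h1 := uu_perp E S c 0 k
    rw [zero_smul, zero_add] at h1
    rw [qAut_mul_apply, qAut_mul_apply, h1, map_sub, hA, hB, uu_perp E S] at h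
    have hAF : A (c * k * (2 * algebraMap F K t)) = (2 * algebraMap F K t) * A (c * k) := by
      have hAalg' : ∀ (r : F) (a : K), A (r • a) = r • A a := fun r a => smul_left_injective K S.v0 (by
        show A (r • a) • v = (r • A a) • v
        rw [← hA, smul_assoc, map_smul, hA, smul_assoc])
      rw [mul_comm (c * k), show (2 : K) * algebraMap F K t = algebraMap F K (2 * t) by rw [map_mul, map_ofNat],
        ← Algebra.smul_def, ← Algebra.smul_def, hAalg']
    rw [hAF] at h
    have h2 : ((2 * algebraMap F K t) * A (c * k)) • v = (φ c * B k * (2 * algebraMap F K t)) • v := by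
      linear_combination (norm := module) -h
    rw [mul_comm (φ c * B k)] at h2
    exact mul_left_cancel₀ (mul_ne_zero E.two' S.t0') (smul_left_injective K S.v0 h2)
  have hAadd : ∀ a b, A (a + b) = A a + A b := fun a b => smul_left_injective K S.v0 (by
    show A (a + b) • v = (A a + A b) • v
    rw [← hA, add_smul, map_add, hA, hA, add_smul])
  have hAalg : ∀ (r : F) (a : K), A (r • a) = r • A a := fun r a => smul_left_injective K S.v0 (by
    show A (r • a) • v = (r • A a) • v
    rw [← hA, smul_assoc, map_smul, hA, smul_assoc])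
  have hA0 : ∀ a, A a = 0 → a = 0 := fun a ha => by
    have h := hA a
    rw [ha, zero_smul, map_eq_zero_iff _ x.1.injective, smul_eq_zero] at h
    exact h.resolve_right S.v0
  obtain ⟨l, hl⟩ : ∃ l, l = A 1 := ⟨_, rfl⟩
  have hl0 : l ≠ 0 := fun h => one_ne_zero (hA0 1 (hl ▸ h))
  have hl1 : φ 1 * B 1 = l := by rw [← hrel, mul_one, hl]
  have hB1 : B 1 ≠ 0 := fun h => hl0 (by rw [← hl1, h, mul_zero])
  have hmul : ∀ c k, A (c * k) * l = A c * A k := fun c k => by
    have h1 := hrel c 1
    have h2 := hrel 1 k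
    rw [mul_one] at h1
    rw [one_mul] at h2
    rw [hrel, h1, h2, ← hl1]
    ring
  let s₀ : K →ₐ[F] K := AlgHom.ofLinearMap
    { toFun := fun k => A k / l
      map_add' := fun a b => by rw [hAadd, add_div]
      map_smul' := fun r a => by rw [hAalg, RingHom.id_apply, ← smul_div_assoc] }
    (by show A 1 / l = 1; rw [← hl, div_self hl0])
    (fun a b => by
      show A (a * b) / l = A a / l * (A b / l)
      rw [div_mul_div_comm, ← hmul, mul_div_mul_right _ _ hl0])
  let s : K ≃ₐ[F] K := AlgEquiv.ofBijective s₀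
    (Finite.injective_iff_bijective.1 s₀.toRingHom.injective)
  have hs : ∀ k, l * s k = A k := fun k => mul_div_cancel₀ _ hl0
  have hBs : ∀ k, B k = B 1 * s k := fun k => by
    refine mul_left_cancel₀ (left_ne_zero_of_mul (hl1 ▸ hl0 : φ 1 * B 1 ≠ 0)) ?_
    rw [← hrel, one_mul, ← mul_assoc, hl1, hs]
  refine ⟨l, hl0, s, B 1, ⟨fun k => by rw [hA, hs], fun k => ⟨β k, by rw [hB, hBs]⟩⟩, ?_⟩
  refine sub_eq_zero.1 ((mul_eq_zero.1 (E.trace_ext (a := (B 1 * B 1 - 1) * τ) fun y => ?_)).resolve_right
    (hτ ▸ S.t0'))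
  obtain ⟨y', rfl⟩ := s.surjective y
  have key : ∀ k : K, Algebra.trace F K (s k * s k * ((B 1 * B 1 - 1) * τ)) = 0 := fun k => by
    have h := qAut_map x (k • e)
    rw [hB, E.quad, E.quad, quad_add, quad_smul, quad_smul, quad_smul, S.sv, S.re, QuadraticMap.polar_smul_left,
      QuadraticMap.polar_smul_right, S.ve, hBs, ← hτ] at h
    simp only [mul_zero, smul_zero, zero_add, add_zero] at h
    have h' : Algebra.trace F K (s (k * k * τ)) = Algebra.trace F K (k * k * τ) := Algebra.trace_eq_of_algEquiv s _
    rw [map_mul s, map_mul s, hτ, AlgEquiv.commutes, ← hτ] at h'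
    rw [show s k * s k * ((B 1 * B 1 - 1) * τ) = B 1 * s k * (B 1 * s k) * τ - s k * s k * τ by ring, map_sub, h, h',
      sub_self]
  have e1 := eq_sq_sub E.two' y'
  rw [e1, map_sub s, map_mul s, map_mul s, sub_mul, map_sub, key, key, sub_self]

variable (hME : M ≤ eichGroup Q) (hr : Module.finrank F K = 3)
include hME hr

/-- Scalar signs of an element of Omega stabilising the line. -/
theorem signs {x : qAut Q} (hx : x ∈ M) {l b : K} (hA : Act R v e x l (1 : K ≃ₐ[F] K) b) (hl : l * l = 1)
    (hb : b * b = 1) : b = 1 ∧ (OrthType.eta F = -1 → l = 1) := by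
  classical
  obtain ⟨p, hp⟩ := CharP.exists F
  haveI : Fact p.Prime := ⟨CharP.char_is_prime F p⟩
  have hpodd : Odd p := (Fact.out : p.Prime).odd_of_ne_two fun h => E.two (by
    subst h
    exact CharTwo.two_eq_zero)
  obtain ⟨j, hj⟩ := hpodd
  have hpm : ∀ z : K, z * z = 1 → z ^ p = z := fun z hz => by
    rw [hj, pow_succ, pow_mul, sq, hz, one_pow, one_mul]
  obtain ⟨y, hy⟩ : ∃ y, y = x ^ p := ⟨_, rfl⟩
  have hyA : Act R v e y l (1 : K ≃ₐ[F] K) b := by
    have h := act_pow hA rfl rfl p
    rwa [← hy, hpm l hl, hpm b hb, one_pow] at h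
  have hyy : ∀ z, y.1 (y.1 z) = z := by
    have h2 : Act R v e (x * x) 1 (1 : K ≃ₐ[F] K) 1 := by
      have h := act_mul hA hA
      rwa [AlgEquiv.one_apply, AlgEquiv.one_apply, hl, hb, mul_one] at h
    obtain ⟨c, hc⟩ := eq_uu_of_rad E S (uu_mem' E hn S hM) hT (M.mul_mem hx hx) (rad_of_act E S h2)
    have hn' : ∀ n : ℕ, uu E v e c ^ n = uu E v e (n * c) := fun n => by
      induction n with
      | zero => rw [pow_zero, Nat.cast_zero, zero_mul, uu_zero E S]
      | succ n ih => rw [pow_succ, ih, uu_mul E S]; push_cast; rw [add_mul, one_mul]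
    haveI : CharP K p := charP_of_injective_algebraMap (algebraMap F K).injective p
    have h1 : y * y = 1 := by
      rw [hy, ← pow_add, ← two_mul, pow_mul, sq, hc, hn', CharP.cast_eq_zero, zero_mul, uu_zero E S]
    intro z
    rw [← qAut_mul_apply, h1]
    rfl
  have hyE : y ∈ commutator (qAut Q) := by
    rw [← eichGroup_eq_commutator Q E.polarNondeg hn, hy]
    exact Subgroup.pow_mem _ (hME hx) _
  obtain ⟨Em, m, hnd, hneg, hpos, hdim, hsg⟩ :=
    OrthType.invol_data E.two E.polarNondeg (Or.inr (by omega)) hyE hyy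
  have hcomp := (OrthType.split_res E.polarNondeg hnd).1
  have hmem : ∀ z, y.1 z = -z → z ∈ Em := fun z hz => by
    obtain ⟨a, ha, c, hc, rfl⟩ := Submodule.mem_sup.1 (hcomp.sup_eq_top ▸ Submodule.mem_top (x := z))
    rw [map_add, hneg a ha, hpos c hc, neg_add, add_right_inj] at hz
    have h2 : (2 : F) • c = 0 := by rw [two_smul]; nth_rewrite 2 [hz]; exact add_neg_cancel c
    rw [smul_eq_zero] at h2
    rw [h2.resolve_left E.two, add_zero]
    exact ha
  have hpol : ∀ k : K, QuadraticMap.polar R (y.1 (k • f)) v = l * k := fun k => by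
    refine sub_eq_zero.1 (E.trace_ext fun z => ?_)
    have h := qAut_polar y (k • f) (z • v)
    rw [hyA.line, E.polar, E.polar, QuadraticMap.polar_smul_right, QuadraticMap.polar_smul_right,
      QuadraticMap.polar_smul_left, S.fv, AlgEquiv.one_apply] at h
    simp only [smul_eq_mul, mul_one] at h
    rw [mul_sub, map_sub, sub_eq_zero, show z * (l * k) = l * (z * k) by ring,
      show z * QuadraticMap.polar R (y.1 (k • f)) v = l * (l * z * QuadraticMap.polar R (y.1 (k • f)) v) by
        rw [← mul_assoc, ← mul_assoc l, hl, one_mul]]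
    rcases mul_self_eq_one_iff.1 hl with rfl | rfl
    · simpa only [one_mul] using h
    · simpa only [neg_one_mul, map_neg, neg_inj] using h
  -- vectors in both eigenspaces
  have h3K : Module.finrank F (Submodule.span K {e} |>.restrictScalars F) = 3 := by
    have h1 := Module.finrank_mul_finrank F K (Submodule.span K {e})
    rw [hr, finrank_span_singleton (fun h => S.t0' (by rw [← S.re, h, map_zero])), mul_one] at h1
    exact h1.symm
  have hf3 : Module.finrank F (Submodule.span K {f} |>.restrictScalars F) = 3 := by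
    have h1 := Module.finrank_mul_finrank F K (Submodule.span K {f})
    rw [hr, finrank_span_singleton S.f0, mul_one] at h1
    exact h1.symm
  have hv3 : Module.finrank F (lineF F (K := K) v) = 3 := by
    have h1 := Module.finrank_mul_finrank F K (Submodule.span K {v})
    rw [hr, finrank_span_singleton S.v0, mul_one] at h1
    exact h1.symm
  have hV9 : Module.finrank F V = 9 := by
    have h1 := Module.finrank_mul_finrank F K V
    have h2 : Module.finrank K V = 3 := by
      obtain ⟨bs, hbs⟩ : ∃ w : Fin 3 → V, w = ![v, e, f] := ⟨_, rfl⟩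
      refine le_antisymm ?_ ?_
      · refine le_trans (le_of_eq (finrank_top K V).symm) (le_trans (Submodule.finrank_mono
          (show (⊤ : Submodule K V) ≤ Submodule.span K (Set.range bs) from fun z _ => ?_)) (finrank_range_le_card bs))
        obtain ⟨a, c, d, rfl⟩ := S.span z
        rw [hbs]
        exact add_mem (add_mem (Submodule.smul_mem _ _ (Submodule.subset_span ⟨0, rfl⟩))
          (Submodule.smul_mem _ _ (Submodule.subset_span ⟨1, rfl⟩)))
          (Submodule.smul_mem _ _ (Submodule.subset_span ⟨2, rfl⟩))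
      · have hli : LinearIndependent K bs := Fintype.linearIndependent_iff.2 fun g hg i => by
          rw [hbs, Fin.sum_univ_three] at hg
          simp only [Matrix.cons_val_zero, Matrix.cons_val_one, Matrix.cons_val_two, Matrix.tail_cons,
            Matrix.head_cons] at hg
          have e0 := congrArg (fun z => QuadraticMap.polar R z f) hg
          have e1 := congrArg (fun z => QuadraticMap.polar R z e) hg
          have e2 := congrArg (fun z => QuadraticMap.polar R z v) hg
          simp only [S.pol_f, S.pol_e, S.pol_v, QuadraticMap.polar_zero_left] at e0 e1 e2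
          fin_cases i
          · exact e0
          · exact (mul_eq_zero.1 e1).resolve_right (mul_ne_zero E.two' S.t0')
          · exact e2
        simpa using hli.fintype_card_le_finrank
    rw [hr, h2] at h1
    omega
  have hhalf : ∀ z : V, ((2 : F)⁻¹ • (z - y.1 z)) ∈ Em := fun z => hmem _ (by
    rw [map_smul, map_sub, hyy, ← smul_neg, neg_sub])
  have hhalf' : ∀ z : V, y.1 ((2 : F)⁻¹ • (z + y.1 z)) = (2 : F)⁻¹ • (z + y.1 z) := fun z => by
    rw [map_smul, map_add, hyy, add_comm]
  have hfixp : ∀ z, y.1 z = z → z ∈ OrthType.perp Q Em := fun z hz => by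
    obtain ⟨a, ha, c, hc, rfl⟩ := Submodule.mem_sup.1 (hcomp.sup_eq_top ▸ Submodule.mem_top (x := z))
    rw [map_add, hneg a ha, hpos c hc, add_left_inj, neg_eq_iff_add_eq_zero, ← two_smul F, smul_eq_zero] at hz
    rw [hz.resolve_left E.two, zero_add]
    exact hc
  have hsum := Submodule.finrank_add_eq_of_isCompl hcomp
  rw [hV9] at hsum
  -- projections modulo the line
  obtain ⟨P, hP⟩ : ∃ P : V →ₗ[F] K, ∀ z, P z = QuadraticMap.polar R z e :=
    ⟨((QuadraticMap.polarBilin R).flip e).restrictScalars F, fun z => by simp⟩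
  obtain ⟨P', hP'⟩ : ∃ P' : V →ₗ[F] K, ∀ z, P' z = QuadraticMap.polar R z v :=
    ⟨((QuadraticMap.polarBilin R).flip v).restrictScalars F, fun z => by simp⟩
  have hsurj : ∀ U : Submodule F V, ∀ g : V →ₗ[F] K, (∀ k, ∃ z ∈ U, g z = k) → 3 ≤ Module.finrank F U :=
    fun U g hg => by
      have h1 := Submodule.finrank_map_le g U
      rw [show U.map g = ⊤ from eq_top_iff.2 fun k _ => Submodule.mem_map.2 (hg k), finrank_top, hr] at h1
      exact h1
  have hke : ∀ k : K, P' (k • e) = 0 ∧ P (k • e) = k * (2 * algebraMap F K t) := fun k => by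
    rw [hP, hP', perp_vec S, QuadraticMap.polar_smul_left, S.ee, smul_eq_mul]
    exact ⟨rfl, rfl⟩
  have hye : ∀ k : K, P' (y.1 (k • e)) = 0 ∧ P (y.1 (k • e)) = b * k * (2 * algebraMap F K t) := fun k => by
    obtain ⟨a, ha⟩ := hyA.mid k
    have h1 := S.pol_v a (b * k) 0
    have h2 := S.pol_e a (b * k) 0
    rw [zero_smul, add_zero] at h1 h2
    rw [hP, hP', ha, AlgEquiv.one_apply, h1, h2]
    exact ⟨rfl, rfl⟩
  have h22 : ∀ z : K, (2 : F)⁻¹ • (z + z) = z := fun z => by
    rw [← two_smul F z, smul_smul, inv_mul_cancel₀ E.two, one_smul]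
  rcases mul_self_eq_one_iff.1 hb with rfl | rfl
  · refine ⟨rfl, fun heta => ?_⟩
    by_contra hl1
    have hlm : l = -1 := (mul_self_eq_one_iff.1 hl).resolve_left hl1
    subst hlm
    -- six dimensions of sign minus
    obtain ⟨U, hU⟩ : ∃ U, U = lineF F (K := K) v := ⟨_, rfl⟩
    have hUE : U ≤ Em := fun z hz => by
      rw [hU] at hz
      obtain ⟨k, rfl⟩ := mem_lineF.1 hz
      refine hmem _ ?_
      rw [hyA.line, AlgEquiv.one_apply, neg_one_mul, neg_smul]
    have hE6 : 6 ≤ Module.finrank F Em := by
      have h1 := LinearMap.finrank_range_add_finrank_ker (P' ∘ₗ Em.subtype)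
      have hr3 : Module.finrank F (LinearMap.range (P' ∘ₗ Em.subtype)) = 3 := by
        rw [LinearMap.range_eq_top.2 fun k => ?_, finrank_top, hr]
        refine ⟨⟨_, hhalf (k • f)⟩, ?_⟩
        show P' ((2 : F)⁻¹ • (k • f - y.1 (k • f))) = k
        rw [map_smul P', map_sub P', hP', hP', hpol, QuadraticMap.polar_smul_left, S.fv, smul_eq_mul, mul_one,
          neg_one_mul, sub_neg_eq_add, h22]
      have hk3 : 3 ≤ Module.finrank F (LinearMap.ker (P' ∘ₗ Em.subtype)) := by
        have h2 := LinearMap.finrank_le_finrank_of_injective (f := LinearMap.codRestrict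
          (LinearMap.ker (P' ∘ₗ Em.subtype)) (Submodule.inclusion hUE) fun z => LinearMap.mem_ker.2 (by
            obtain ⟨k, hk⟩ := mem_lineF.1 (hU.le z.2)
            show P' (z : V) = 0
            rw [← hk, hP', QuadraticMap.polar_smul_left, quad_polar_self, S.sv, mul_zero, smul_zero]))
          (fun a c h => Submodule.inclusion_injective hUE (congrArg Subtype.val h))
        rwa [hU, hv3] at h2
      omega
    have hF3 : 3 ≤ Module.finrank F (OrthType.perp Q Em) := hsurj _ P fun k => by
      obtain ⟨k', rfl⟩ : ∃ k', k' * (2 * algebraMap F K t) = k :=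
        ⟨k / (2 * algebraMap F K t), div_mul_cancel₀ _ (mul_ne_zero E.two' S.t0')⟩
      refine ⟨_, hfixp _ (hhalf' (k' • e)), ?_⟩
      rw [map_smul P, map_add P, (hke k').2, (hye k').2, one_mul, h22]
    have hm : m = 3 := by omega
    have hs1 : OrthType.Sg (OrthType.res Q Em) 1 := (OrthType.sg_one_iff hnd ⟨m, by omega⟩).2
      ⟨U.comap Em.subtype, fun z hz => by
        obtain ⟨k, hk⟩ := mem_lineF.1 (hU ▸ hz : (z : V) ∈ lineF F (K := K) v)
        show Q (z : V) = 0
        rw [← hk, E.sing S.sv], by
        rw [(Submodule.comapSubtypeEquivOfLe hUE).finrank_eq, hU, hv3]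
        omega⟩
    have := OrthType.sg_unique hs1 hsg
    rw [hm, heta] at this
    norm_num at this
  · exfalso
    -- an odd eigenspace
    have hE3 : 3 ≤ Module.finrank F Em := hsurj _ P fun k => by
      obtain ⟨k', rfl⟩ : ∃ k', k' * (2 * algebraMap F K t) = k :=
        ⟨k / (2 * algebraMap F K t), div_mul_cancel₀ _ (mul_ne_zero E.two' S.t0')⟩
      refine ⟨_, hhalf (k' • e), ?_⟩
      rw [map_smul P, map_sub P, (hke k').2, (hye k').2, neg_one_mul, neg_mul, sub_neg_eq_add, h22]
    rcases mul_self_eq_one_iff.1 hl with rfl | rfl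
    · have hF6 : 6 ≤ Module.finrank F (OrthType.perp Q Em) := by
        have hUF : lineF F (K := K) v ≤ OrthType.perp Q Em := fun z hz => by
          obtain ⟨k, rfl⟩ := mem_lineF.1 hz
          refine hfixp _ ?_
          rw [hyA.line, AlgEquiv.one_apply, one_mul]
        have h1 := LinearMap.finrank_range_add_finrank_ker (P' ∘ₗ (OrthType.perp Q Em).subtype)
        have hr3 : Module.finrank F (LinearMap.range (P' ∘ₗ (OrthType.perp Q Em).subtype)) = 3 := by
          rw [LinearMap.range_eq_top.2 fun k => ?_, finrank_top, hr]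
          refine ⟨⟨_, hfixp _ (hhalf' (k • f))⟩, ?_⟩
          show P' ((2 : F)⁻¹ • (k • f + y.1 (k • f))) = k
          rw [map_smul P', map_add P', hP', hP', hpol, QuadraticMap.polar_smul_left, S.fv, smul_eq_mul, mul_one,
            one_mul, h22]
        have hk3 : 3 ≤ Module.finrank F (LinearMap.ker (P' ∘ₗ (OrthType.perp Q Em).subtype)) := by
          have h2 := LinearMap.finrank_le_finrank_of_injective (f := LinearMap.codRestrict
            (LinearMap.ker (P' ∘ₗ (OrthType.perp Q Em).subtype)) (Submodule.inclusion hUF) fun z =>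
              LinearMap.mem_ker.2 (by
                obtain ⟨k, hk⟩ := mem_lineF.1 z.2
                show P' (z : V) = 0
                rw [← hk, hP', QuadraticMap.polar_smul_left, quad_polar_self, S.sv, mul_zero, smul_zero]))
            (fun a c h => Submodule.inclusion_injective hUF (congrArg Subtype.val h))
          rwa [hv3] at h2
        omega
      omega
    · -- nothing fixed
      have hfix0 : OrthType.perp Q Em = ⊥ := (Submodule.eq_bot_iff _).2 fun z hz => by
        have hyz := hpos z hz
        obtain ⟨a, c, d, rfl⟩ := S.span z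
        have h2' : ∀ w : K, w = -w → w = 0 := fun w h => by
          have : (2 : K) * w = 0 := by linear_combination h
          exact (mul_eq_zero.1 this).resolve_left E.two'
        obtain ⟨a', ha'⟩ := hyA.mid c
        have ea : y.1 (a • v + c • e) = (a' - a) • v + (-c) • e := by
          rw [map_add, hyA.line, ha', AlgEquiv.one_apply, AlgEquiv.one_apply]; module
        have hd : d = 0 := by
          have h1 := congrArg (fun w => QuadraticMap.polar R w v) hyz
          rw [show y.1 (a • v + c • e + d • f) = (a' - a) • v + (-c) • e + y.1 (d • f) by rw [map_add, ea],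
            QuadraticMap.polar_add_left, hpol] at h1
          have h3 := S.pol_v (a' - a) (-c) 0
          rw [zero_smul, add_zero] at h3
          simp only [h3, S.pol_v, zero_add, neg_one_mul] at h1
          exact h2' d h1.symm
        subst hd
        rw [zero_smul, add_zero] at hyz ⊢
        rw [ea] at hyz
        have h1 := congrArg (fun w => QuadraticMap.polar R (w + (0 : K) • f) e) hyz
        simp only [S.pol_e] at h1
        have hc0 : c = 0 := h2' c (mul_right_cancel₀ (mul_ne_zero E.two' S.t0') h1).symm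
        subst hc0
        rw [zero_smul, add_zero]
        have ha'0 : a' = 0 := by
          rw [zero_smul, map_zero, map_zero, mul_zero, zero_smul, add_zero, eq_comm, smul_eq_zero] at ha'
          exact ha'.resolve_right S.v0
        subst ha'0
        simp only [neg_zero, zero_smul, add_zero, zero_sub] at hyz
        rw [h2' a (smul_left_injective K S.v0 hyz).symm, zero_smul]
      rw [hfix0, finrank_bot] at hsum
      omega

end CfsgLib.Classical22.OrthField.Cubic
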