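/-
Elements of large prime order fixing an anisotropic vector.
-/
import Cfsg.Agent.Lib.Classical22.OrthField.Basic
import Mathlib.GroupTheory.Sylow
import Mathlib.GroupTheory.Perm.Cycle.Type

set_option autoImplicit false
set_option linter.all false

namespace CfsgLib.Classical22.OrthField.Cubic

open CfsgLib.Classical

/-- A prime divisor of the cubic cyclotomic values. -/
theorem exists_prime {q p : ℕ} (hp : p.Prime) (hqp : ∃ k, q = p ^ k) (hq : 3 < q) (hodd : Odd q) {N : ℕ}
    (hN : N + 1 = q ^ 3 ∨ N = q ^ 3 + 1) : ∃ r : ℕ, r.Prime ∧ r ≠ 2 ∧ r ≠ 3 ∧ r ≠ p ∧ r ∣ N := by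
  obtain ⟨k, hk⟩ := hqp
  obtain ⟨j, hj⟩ := hodd
  obtain ⟨Φ, hΦodd, hΦ9, hΦ4, hΦp, hΦN⟩ : ∃ Φ, Odd Φ ∧ ¬ 9 ∣ Φ ∧ 4 ≤ Φ ∧ (p ∣ Φ → False) ∧ Φ ∣ N := by
    have hpq : p ∣ q := hk ▸ dvd_pow_self p (by rintro rfl; simp at hk; omega)
    rcases hN with hN | hN
    · refine ⟨q * q + q + 1, ⟨2 * j * j + 3 * j + 1, by rw [hj]; ring⟩, fun h => ?_, by nlinarith, fun h => ?_, ?_⟩
      · obtain ⟨c, hc⟩ := h
        obtain ⟨i, rfl | rfl | rfl⟩ : ∃ i, q = 3 * i ∨ q = 3 * i + 1 ∨ q = 3 * i + 2 := ⟨q / 3, by omega⟩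
        · ring_nf at hc; omega
        · ring_nf at hc; omega
        · ring_nf at hc; omega
      · have h1 : p ∣ q * q + q := dvd_add (Dvd.dvd.mul_left hpq q) hpq
        exact hp.one_lt.ne' (Nat.dvd_one.1 ((Nat.dvd_add_right h1).1 h))
      · exact ⟨q - 1, by obtain ⟨q', rfl⟩ : ∃ q', q = q' + 1 := ⟨q - 1, by omega⟩
                         rw [Nat.add_sub_cancel]
                         have e : (q' + 1) ^ 3 = ((q' + 1) * (q' + 1) + (q' + 1) + 1) * q' + 1 := by ring
                         omega⟩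
    · obtain ⟨Φ, hΦ⟩ : ∃ Φ, Φ + q = q * q + 1 := ⟨q * q + 1 - q, Nat.sub_add_cancel (by nlinarith)⟩
      refine ⟨Φ, ?_, fun h => ?_, by nlinarith, fun h => ?_, ?_⟩
      · rcases Nat.even_or_odd Φ with ⟨c, hc⟩ | h
        · exfalso
          subst hj
          ring_nf at hΦ
          omega
        · exact h
      · obtain ⟨c, hc⟩ := h
        obtain ⟨i, rfl | rfl | rfl⟩ : ∃ i, q = 3 * i ∨ q = 3 * i + 1 ∨ q = 3 * i + 2 := ⟨q / 3, by omega⟩
        · ring_nf at hΦ; omega
        · ring_nf at hΦ; omega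
        · ring_nf at hΦ; omega
      · have h1 : p ∣ Φ + q := dvd_add h hpq
        rw [hΦ] at h1
        exact hp.one_lt.ne' (Nat.dvd_one.1 ((Nat.dvd_add_right (Dvd.dvd.mul_left hpq q)).1 h1))
      · refine ⟨q + 1, ?_⟩
        have e : Φ * (q + 1) + q * (q + 1) = q ^ 3 + 1 + q * (q + 1) := by
          rw [← add_mul, hΦ]; ring
        omega
  by_cases h3 : 3 ∣ Φ
  · obtain ⟨c, rfl⟩ := h3
    obtain ⟨r, hr, hrc⟩ := Nat.exists_prime_and_dvd (n := c) (by omega)
    refine ⟨r, hr, fun h => ?_, fun h => ?_, fun h => ?_, (hrc.mul_left 3).trans hΦN⟩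
    · exact (Nat.not_even_iff_odd.2 hΦodd) (even_iff_two_dvd.2 (h ▸ hrc.mul_left 3))
    · exact hΦ9 (Nat.mul_dvd_mul_left 3 (h ▸ hrc))
    · exact hΦp (h ▸ hrc.mul_left 3)
  · obtain ⟨r, hr, hrc⟩ := Nat.exists_prime_and_dvd (n := Φ) (by omega)
    exact ⟨r, hr, fun h => (Nat.not_even_iff_odd.2 hΦodd) (even_iff_two_dvd.2 (h ▸ hrc)), fun h => h3 (h ▸ hrc),
      fun h => hΦp (h ▸ hrc), hrc.trans hΦN⟩

variable {F : Type*} [Field F] {K : Type*} [Field K] [Algebra F K]
variable {V : Type*} [AddCommGroup V] [Module F V] [Module K V] [IsScalarTower F K V]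
variable {Q : QuadraticForm F V} {R : QuadraticForm K V}

/-- Solutions of a diagonal binary form. -/
theorem card_conic [Fintype K] {ε : K} (hε : ε ≠ 0) (h2 : (2 : K) ≠ 0) :
    Nat.card {z : K × K // z.1 * z.1 + ε * (z.2 * z.2) = 1} + 1 = Fintype.card K ∨
      Nat.card {z : K × K // z.1 * z.1 + ε * (z.2 * z.2) = 1} = Fintype.card K + 1 := by
  classical
  let Z := {z : K × K // z.1 * z.1 + ε * (z.2 * z.2) = 1}
  let T := {m : K // ε * (m * m) + 1 ≠ 0}
  let f : Option T → Z := fun o => match o with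
    | none => ⟨(1, 0), by simp⟩
    | some m => ⟨((ε * (m.1 * m.1) - 1) / (ε * (m.1 * m.1) + 1), 2 * m.1 / (ε * (m.1 * m.1) + 1)), by
        have hd := m.2
        show (ε * (m.1 * m.1) - 1) / (ε * (m.1 * m.1) + 1) * ((ε * (m.1 * m.1) - 1) / (ε * (m.1 * m.1) + 1)) +
          ε * (2 * m.1 / (ε * (m.1 * m.1) + 1) * (2 * m.1 / (ε * (m.1 * m.1) + 1))) = 1
        rw [div_mul_div_comm, div_mul_div_comm, mul_div_assoc', ← add_div, div_eq_one_iff_eq (mul_ne_zero hd hd)]
        ring⟩
  have hfsome : ∀ m : T, 1 - (f (some m)).1.1 = 2 / (ε * (m.1 * m.1) + 1) ∧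
      (f (some m)).1.2 = 2 * m.1 / (ε * (m.1 * m.1) + 1) := fun m => by
    refine ⟨?_, rfl⟩
    show 1 - (ε * (m.1 * m.1) - 1) / (ε * (m.1 * m.1) + 1) = _
    rw [eq_div_iff m.2, sub_mul, div_mul_cancel₀ _ m.2]
    ring
  have hbij : Function.Bijective f := by
    constructor
    · intro a c h
      rcases a with _ | a <;> rcases c with _ | c
      · rfl
      · exfalso
        have h1 := (hfsome c).1
        rw [← h] at h1
        simp only [f, sub_self] at h1
        exact (div_ne_zero h2 c.2) h1.symm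
      · exfalso
        have h1 := (hfsome a).1
        rw [h] at h1
        simp only [f, sub_self] at h1
        exact (div_ne_zero h2 a.2) h1.symm
      · have h1 := (hfsome a).1
        have h3 := (hfsome a).2
        rw [h, (hfsome c).1] at h1
        rw [h, (hfsome c).2] at h3
        have : a.1 = c.1 := by
          have e : ∀ d : K, 2 * d / (ε * (d * d) + 1) = d * (2 / (ε * (d * d) + 1)) := fun d => by ring
          rw [e, e, h1] at h3
          exact (mul_right_cancel₀ (div_ne_zero h2 a.2) h3).symm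
        rw [Subtype.ext this]
    · rintro ⟨⟨x, y⟩, hz⟩
      by_cases hx : x = 1
      · refine ⟨none, Subtype.ext (Prod.ext hx.symm ?_)⟩
        simp only at hz
        subst hx
        have : ε * (y * y) = 0 := by linear_combination hz
        exact (mul_self_eq_zero.1 ((mul_eq_zero.1 this).resolve_left hε)).symm
      · have hx' : (1 : K) - x ≠ 0 := sub_ne_zero.2 (Ne.symm hx)
        simp only at hz
        have hd : ε * (y / (1 - x) * (y / (1 - x))) + 1 = 2 / (1 - x) := by
          field_simp
          linear_combination hz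
        refine ⟨some ⟨y / (1 - x), hd ▸ div_ne_zero h2 hx'⟩, Subtype.ext (Prod.ext ?_ ?_)⟩
        · show (ε * (y / (1 - x) * (y / (1 - x))) - 1) / (ε * (y / (1 - x) * (y / (1 - x))) + 1) = x
          rw [show ε * (y / (1 - x) * (y / (1 - x))) - 1 = 2 / (1 - x) - 2 by linear_combination hd, hd]
          field_simp
          ring
        · show 2 * (y / (1 - x)) / (ε * (y / (1 - x) * (y / (1 - x))) + 1) = y
          rw [hd]
          field_simp
  have hcard : Nat.card Z = Fintype.card T + 1 := by
    rw [← Nat.card_eq_of_bijective f hbij, Nat.card_eq_fintype_card, Fintype.card_option]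
  show Nat.card Z + 1 = _ ∨ Nat.card Z = _
  rw [hcard]
  have hT : Fintype.card T + Fintype.card {m : K // ε * (m * m) + 1 = 0} = Fintype.card K := by
    rw [Fintype.card_subtype_compl, Nat.sub_add_cancel (Fintype.card_subtype_le _)]
  by_cases hroot : ∃ m : K, ε * (m * m) + 1 = 0
  · left
    obtain ⟨m, hm⟩ := hroot
    have hm0 : m ≠ 0 := fun h => by simp [h] at hm
    have h2' : Fintype.card {m : K // ε * (m * m) + 1 = 0} = 2 := by
      rw [Fintype.card_subtype, show (Finset.univ.filter fun x : K => ε * (x * x) + 1 = 0) = {m, -m} from ?_,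
        Finset.card_pair fun h => hm0 ((mul_eq_zero.1 (show (2 : K) * m = 0 by linear_combination h)).resolve_left h2)]
      ext x
      simp only [Finset.mem_filter, Finset.mem_univ, true_and, Finset.mem_insert, Finset.mem_singleton]
      constructor
      · intro hx
        exact mul_self_eq_mul_self_iff.1 (mul_left_cancel₀ hε (by linear_combination hx - hm))
      · rintro (rfl | rfl)
        · exact hm
        · rw [neg_mul_neg, hm]
    omega
  · right
    haveI : IsEmpty {m : K // ε * (m * m) + 1 = 0} := ⟨fun m => hroot ⟨m, m.2⟩⟩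
    rw [Fintype.card_eq_zero (α := {m : K // ε * (m * m) + 1 = 0})] at hT
    omega

variable [FiniteDimensional K V] [Fintype K]
variable (E : Over Q R) (hd : Module.finrank K V = 3)
include E hd

/-- An orthogonal basis starting at an anisotropic vector. -/
theorem exists_plane {w : V} (hw : R w ≠ 0) : ∃ a b : V, QuadraticMap.polar R a w = 0 ∧ QuadraticMap.polar R b w = 0 ∧
    QuadraticMap.polar R b a = 0 ∧ R a ≠ 0 ∧ R b ≠ 0 ∧ ∀ z, ∃ x y u : K, z = x • w + y • a + u • b := by
  classical
  obtain ⟨a, hwa, ha⟩ := E.exists_aniso_perp_one (by omega) (u := w)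
  have haw : QuadraticMap.polar R a w = 0 := by rw [QuadraticMap.polar_comm]; exact hwa
  obtain ⟨Lm, hLm⟩ : ∃ L : V →ₗ[K] K × K, ∀ x, L x = (QuadraticMap.polar R x w, QuadraticMap.polar R x a) :=
    ⟨((QuadraticMap.polarBilin R).flip w).prod ((QuadraticMap.polarBilin R).flip a), fun x => by simp⟩
  obtain ⟨b, hb, hb0⟩ := Submodule.exists_mem_ne_zero_of_ne_bot (p := LinearMap.ker Lm) fun h => by
    have h1 := LinearMap.finrank_range_add_finrank_ker Lm
    have h2 := Submodule.finrank_le (LinearMap.range Lm)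
    rw [h, finrank_bot, hd] at h1
    rw [Module.finrank_prod, Module.finrank_self] at h2
    omega
  rw [LinearMap.mem_ker, hLm, Prod.mk_eq_zero] at hb
  obtain ⟨hbw, hba⟩ := hb
  have hli : LinearIndependent K ![w, a, b] := Fintype.linearIndependent_iff.2 fun g hg i => by
    simp only [Fin.sum_univ_three, Matrix.cons_val_zero, Matrix.cons_val_one, Matrix.cons_val_two,
      Matrix.tail_cons, Matrix.head_cons] at hg
    have e0 := congrArg (fun z => QuadraticMap.polar R z w) hg
    have e1 := congrArg (fun z => QuadraticMap.polar R z a) hg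
    simp only [QuadraticMap.polar_add_left, QuadraticMap.polar_smul_left, quad_polar_self, haw, hbw, hwa, hba,
      QuadraticMap.polar_zero_left, smul_eq_mul, mul_zero, add_zero, zero_add, mul_eq_zero, E.two', hw, ha,
      or_false, or_self] at e0 e1
    rw [e0, e1, zero_smul, zero_smul, zero_add, zero_add, smul_eq_zero] at hg
    fin_cases i
    · exact e0
    · exact e1
    · exact hg.resolve_right hb0
  have hspan : ∀ z, ∃ x y u : K, z = x • w + y • a + u • b := fun z => by
    obtain ⟨g, hg⟩ := (Submodule.mem_span_range_iff_exists_fun K).1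
      ((hli.span_eq_top_of_card_eq_finrank (by simp [hd])) ▸ Submodule.mem_top (x := z))
    exact ⟨g 0, g 1, g 2, by rw [← hg]; simp [Fin.sum_univ_three]⟩
  have hRb : R b ≠ 0 := fun h => hb0 (E.nd b fun z => by
    obtain ⟨x, y, u, rfl⟩ := hspan z
    simp [QuadraticMap.polar_add_right, QuadraticMap.polar_smul_right, hbw, hba, quad_polar_self, h])
  exact ⟨a, b, haw, hbw, hba, ha, hRb, hspan⟩

/-- The conjugate with the same value in the perp of an anisotropic vector. -/
theorem exists_twin {w : V} (hw : R w ≠ 0) : ∃ w', QuadraticMap.polar R w w' = 0 ∧ R w' = R w := by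
  classical
  obtain ⟨a, b, haw, hbw, hba, ha, hb, -⟩ := exists_plane E hd hw
  have hdeg : (Polynomial.C (R a) * Polynomial.X ^ 2 - Polynomial.C (R w)).degree = 2 := by
    rw [Polynomial.degree_sub_eq_left_of_degree_lt (by
      rw [Polynomial.degree_C_mul_X_pow 2 ha]
      exact Polynomial.degree_C_le.trans_lt (WithBot.coe_lt_coe.2 two_pos)), Polynomial.degree_C_mul_X_pow 2 ha]
    rfl
  open Polynomial in
  obtain ⟨y, u, hyu⟩ := FiniteField.exists_root_sum_quadratic hdeg (g := C (R b) * X ^ 2)
    (degree_C_mul_X_pow 2 hb) (by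
      have h2 : ringChar K ≠ 2 := fun h => E.two' (by
        haveI := ringChar.of_eq h
        exact CharTwo.two_eq_zero)
      exact Nat.odd_iff.1 (Nat.odd_iff.2 (FiniteField.odd_card_of_char_ne_two h2)))
  refine ⟨y • a + u • b, ?_, ?_⟩
  · rw [QuadraticMap.polar_add_right, QuadraticMap.polar_smul_right, QuadraticMap.polar_smul_right,
      QuadraticMap.polar_comm R w a, QuadraticMap.polar_comm R w b, haw, hbw, smul_zero, smul_zero, add_zero]
  · simp only [Polynomial.eval_sub, Polynomial.eval_mul, Polynomial.eval_C, Polynomial.eval_pow,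
      Polynomial.eval_X] at hyu
    rw [quad_add, quad_smul, quad_smul, QuadraticMap.polar_smul_left, QuadraticMap.polar_smul_right,
      QuadraticMap.polar_comm R a b, hba, smul_zero, smul_zero]
    linear_combination hyu

/-- The fixer of an anisotropic vector has order divisible by one of the two conic sizes. -/
theorem exists_order_dvd {w : V} (hw : R w ≠ 0) : ∃ N : ℕ, (N + 1 = Fintype.card K ∨ N = Fintype.card K + 1) ∧
    N ∣ Nat.card (MulAction.stabilizer (qAut R) w) := by
  classical
  haveI : Finite V := Module.finite_of_finite K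
  haveI : Finite (V ≃ₗ[K] V) := Finite.of_injective _ DFunLike.coe_injective
  obtain ⟨a, b, haw, hbw, hba, ha, hRb, hspan⟩ := exists_plane E hd hw
  have hwa : QuadraticMap.polar R w a = 0 := by rw [QuadraticMap.polar_comm]; exact haw
  have hpol : ∀ x y u : K, QuadraticMap.polar R (x • w + y • a + u • b) w = x * (2 * R w) := fun x y u => by
    simp [QuadraticMap.polar_add_left, QuadraticMap.polar_smul_left, quad_polar_self, haw, hbw]
  have hquad : ∀ y u : K, R (y • a + u • b) = y * y * R a + u * u * R b := fun y u => by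
    simp [quad_add, quad_smul, QuadraticMap.polar_smul_left, QuadraticMap.polar_smul_right,
      QuadraticMap.polar_comm R a b, hba]
  obtain ⟨H, hH⟩ : ∃ H, H = MulAction.stabilizer (qAut R) w := ⟨_, rfl⟩
  have hfixmem : ∀ g : qAut R, g.1 w = w → g ∈ H := fun g hg => hH ▸ hg
  have horbit : MulAction.orbit H a = {z | R z = R a ∧ QuadraticMap.polar R z w = 0} := by
    ext z
    constructor
    · rintro ⟨g, rfl⟩
      have hgw : g.1.1 w = w := (hH ▸ g.2 : g.1 ∈ MulAction.stabilizer (qAut R) w)
      refine ⟨qAut_map g.1 a, ?_⟩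
      show QuadraticMap.polar R (g.1.1 a) w = 0
      conv_lhs => rw [← hgw]
      rw [qAut_polar, haw]
    · rintro ⟨hz, hzw⟩
      by_cases h : R (z - a) = 0
      · have h' : R (z + a) ≠ 0 := fun h' => ha (by
          have e : (2 : K) * 2 * R a = 0 := by
            rw [quad_sub, hz] at h
            rw [quad_add, hz] at h'
            linear_combination h + h'
          exact (mul_eq_zero.1 e).resolve_left (mul_ne_zero E.two' E.two'))
        have h'' : R (z - -a) ≠ 0 := by rwa [sub_neg_eq_add]
        obtain ⟨g, hg⟩ : ∃ g, g = qRefl R ha * qRefl R h'' := ⟨_, rfl⟩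
        have hgz : g.1 z = a := by
          rw [hg, qAut_mul_apply, qRefl_exchange R (by rw [QuadraticMap.map_neg, hz]) h'', map_neg, qRefl_self, neg_neg]
        have hgw : g.1 w = w := by
          rw [hg, qAut_mul_apply, qRefl_fix R h'' (by rw [QuadraticMap.polar_sub_right, QuadraticMap.polar_neg_right,
            QuadraticMap.polar_comm R w z, hzw, hwa, neg_zero, sub_zero]), qRefl_fix R ha hwa]
        exact ⟨(⟨g, hfixmem g hgw⟩ : H)⁻¹, inv_smul_eq_iff.2 hgz.symm⟩
      · have hgw : (qRefl R h).1 w = w := qRefl_fix R h (by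
          rw [QuadraticMap.polar_sub_right, QuadraticMap.polar_comm R w z, hzw, hwa, sub_zero])
        exact ⟨(⟨qRefl R h, hfixmem _ hgw⟩ : H)⁻¹, inv_smul_eq_iff.2 (qRefl_exchange R hz h).symm⟩
  let ε := R b / R a
  have hε : ε ≠ 0 := div_ne_zero hRb ha
  let φ : {z : K × K // z.1 * z.1 + ε * (z.2 * z.2) = 1} → {z : V // R z = R a ∧ QuadraticMap.polar R z w = 0} :=
    fun z => ⟨z.1.1 • a + z.1.2 • b, by
      constructor
      · rw [hquad]
        rw [show R b = ε * R a from (div_mul_cancel₀ _ ha).symm]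
        linear_combination R a * z.2
      · have := hpol 0 z.1.1 z.1.2
        simpa using this⟩
  have hφ : Function.Bijective φ := by
    constructor
    · rintro ⟨⟨x, y⟩, h⟩ ⟨⟨x', y'⟩, h'⟩ he
      have he' : x • a + y • b = x' • a + y' • b := congrArg Subtype.val he
      have e1 := congrArg (fun z => QuadraticMap.polar R z a) he'
      have e2 := congrArg (fun z => QuadraticMap.polar R z b) he'
      simp only [QuadraticMap.polar_add_left, QuadraticMap.polar_smul_left, quad_polar_self, hba,
        QuadraticMap.polar_comm R a b, smul_eq_mul, mul_zero, add_zero, zero_add] at e1 e2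
      exact Subtype.ext (Prod.ext (mul_right_cancel₀ (mul_ne_zero E.two' ha) e1)
        (mul_right_cancel₀ (mul_ne_zero E.two' hRb) e2))
    · rintro ⟨z, hz, hzw⟩
      obtain ⟨x, y, u, rfl⟩ := hspan z
      rw [hpol] at hzw
      have hx : x = 0 := (mul_eq_zero.1 hzw).resolve_right (mul_ne_zero E.two' hw)
      subst hx
      rw [zero_smul, zero_add, hquad] at hz
      refine ⟨⟨(y, u), ?_⟩, Subtype.ext (by simp [φ])⟩
      show y * y + ε * (u * u) = 1
      simp only [ε]
      field_simp
      linear_combination hz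
  refine ⟨_, card_conic hε E.two', ?_⟩
  rw [Nat.card_eq_of_bijective φ hφ, ← hH, show Nat.card {z : V // R z = R a ∧ QuadraticMap.polar R z w = 0} =
    (MulAction.orbit H a).ncard by rw [horbit, ← Nat.card_coe_set_eq]; rfl, ← MulAction.index_stabilizer]
  exact Subgroup.index_dvd_card _

end CfsgLib.Classical22.OrthField.Cubic
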