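/-
Coordinates at any singular line, and maps sending singular lines to lines.
-/
import Cfsg.Agent.Lib.Classical22.OrthFieldThree.Moves
import Mathlib.FieldTheory.Finite.GaloisField

set_option autoImplicit false
set_option linter.all false

namespace CfsgLib.Classical22.OrthField.Cubic

open CfsgLib.Classical

variable {F : Type*} [Field F] {K : Type*} [Field K] [Algebra F K]
variable {V : Type*} [AddCommGroup V] [Module F V] [Module K V] [IsScalarTower F K V]
variable {Q : QuadraticForm F V} {R : QuadraticForm K V}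
variable [FiniteDimensional K V]
variable (E : Over Q R) (hd : Module.finrank K V = 3)
include E hd

/-- Two orthogonal singular vectors are proportional. -/
theorem sing_collinear {x y : V} (hx : R x = 0) (hy : R y = 0) (hxy : QuadraticMap.polar R x y = 0) (hx0 : x ≠ 0) :
    ∃ k : K, k • x = y := by
  obtain ⟨W, hW⟩ : ∃ W, W = Submodule.span K ({x, y} : Set V) := ⟨_, rfl⟩
  have hs : ∀ w ∈ W, R w = 0 := fun w hw => by
    obtain ⟨a, b, rfl⟩ := Submodule.mem_span_pair.1 (hW ▸ hw : w ∈ Submodule.span K ({x, y} : Set V))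
    rw [quad_add, quad_smul, quad_smul, hx, hy, QuadraticMap.polar_smul_left, QuadraticMap.polar_smul_right, hxy]
    simp
  have h := two_mul_finrank_singular R E.nd hs
  have hxW : x ∈ W := hW ▸ Submodule.subset_span (by simp)
  have hyW : y ∈ W := hW ▸ Submodule.subset_span (by simp)
  have h1 : Submodule.span K {x} = W := Submodule.eq_of_le_of_finrank_le (by simpa using hxW) (by
    rw [finrank_span_singleton hx0]; omega)
  exact Submodule.mem_span_singleton.1 (h1 ▸ hyW)

/-- Every hyperbolic pair extends to coordinates. -/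
theorem exists_std_of_pair [FiniteDimensional F K] [Finite K] (hr : Module.finrank F K = 3) {v f : V} (hv : R v = 0)
    (hf : R f = 0) (hfv : QuadraticMap.polar R f v = 1) : ∃ (e : V) (t : F), Std R v f e t := by
  classical
  haveI : Finite F := Finite.of_injective _ (algebraMap F K).injective
  have hv0 : v ≠ 0 := fun h => by simp [h] at hfv
  obtain ⟨L, hL⟩ : ∃ L : V →ₗ[K] K × K, ∀ x, L x = (QuadraticMap.polar R x v, QuadraticMap.polar R x f) :=
    ⟨((QuadraticMap.polarBilin R).flip v).prod ((QuadraticMap.polarBilin R).flip f), fun x => by simp⟩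
  obtain ⟨e₀, he₀, he0⟩ := Submodule.exists_mem_ne_zero_of_ne_bot (p := LinearMap.ker L) fun h => by
    have h1 := LinearMap.finrank_range_add_finrank_ker L
    have h2 := Submodule.finrank_le (LinearMap.range L)
    rw [h, finrank_bot, hd] at h1
    rw [Module.finrank_prod, Module.finrank_self] at h2
    omega
  rw [LinearMap.mem_ker, hL, Prod.mk_eq_zero] at he₀
  obtain ⟨hev, hef⟩ := he₀
  have hd0 : R e₀ ≠ 0 := fun h => by
    obtain ⟨k, hk⟩ := sing_collinear E hd hv h (by rw [QuadraticMap.polar_comm]; exact hev) hv0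
    rw [← hk, QuadraticMap.polar_smul_left, QuadraticMap.polar_comm, hfv, smul_eq_mul, mul_one] at hef
    exact he0 (by rw [← hk, hef, zero_smul])
  obtain ⟨q, hq⟩ : ∃ q, q = Nat.card F := ⟨_, rfl⟩
  obtain ⟨j, hj⟩ : 2 ∣ q ^ 2 + q := by
    rw [sq, show q * q + q = q * (q + 1) by ring]
    exact (Nat.even_mul_succ_self q).two_dvd
  obtain ⟨N, hN⟩ : ∃ N, N = Algebra.norm F (R e₀) := ⟨_, rfl⟩
  have hNq : algebraMap F K N = R e₀ * (R e₀ ^ j * R e₀ ^ j) := by
    rw [hN, FiniteField.algebraMap_norm_eq_pow_sum, hr, ← hq, ← pow_add, ← pow_succ', ← two_mul, ← hj]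
    simp [Finset.sum_range_succ]
    ring
  obtain ⟨e, he⟩ : ∃ e, e = (R e₀ ^ j) • e₀ := ⟨_, rfl⟩
  have hRe : R e = algebraMap F K N := by rw [he, quad_smul, hNq]; ring
  have hN0 : N ≠ 0 := fun h => by
    rw [h, map_zero, zero_eq_mul, mul_eq_zero, or_self] at hNq
    exact hNq.elim hd0 (pow_ne_zero _ hd0)
  have hpv : ∀ a b c : K, QuadraticMap.polar R (a • v + b • e + c • f) v = c := fun a b c => by
    simp [QuadraticMap.polar_add_left, QuadraticMap.polar_smul_left, quad_polar_self, hv, he, hev, hfv]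
  have hpf : ∀ a b c : K, QuadraticMap.polar R (a • v + b • e + c • f) f = a := fun a b c => by
    simp [QuadraticMap.polar_add_left, QuadraticMap.polar_smul_left, quad_polar_self, hf, he, hef,
      QuadraticMap.polar_comm R v f, hfv]
  refine ⟨e, N, hv, hf, hfv, by rw [he, QuadraticMap.polar_smul_right, QuadraticMap.polar_comm, hev, smul_zero],
    by rw [he, QuadraticMap.polar_smul_right, QuadraticMap.polar_comm, hef, smul_zero], hRe, hN0, fun x => ?_⟩
  have hli : LinearIndependent K ![v, e, f] := Fintype.linearIndependent_iff.2 fun g hg i => by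
    simp only [Fin.sum_univ_three, Matrix.cons_val_zero, Matrix.cons_val_one, Matrix.cons_val_two,
      Matrix.tail_cons, Matrix.head_cons] at hg
    have e0 := hpf (g 0) (g 1) (g 2)
    have e2 := hpv (g 0) (g 1) (g 2)
    rw [hg, QuadraticMap.polar_zero_left] at e0 e2
    rw [← e0, ← e2, zero_smul, zero_smul, zero_add, add_zero, smul_eq_zero] at hg
    fin_cases i
    · exact e0.symm
    · exact hg.resolve_right (by rw [he]; exact smul_ne_zero (pow_ne_zero _ hd0) he0)
    · exact e2.symm
  have htop := hli.span_eq_top_of_card_eq_finrank (by simp [hd])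
  obtain ⟨g, hg⟩ := (Submodule.mem_span_range_iff_exists_fun K).1 (htop ▸ Submodule.mem_top (x := x))
  exact ⟨g 0, g 1, g 2, by rw [← hg]; simp [Fin.sum_univ_three]⟩

/-- Every singular vector starts coordinates. -/
theorem exists_std [FiniteDimensional F K] [Finite K] (hr : Module.finrank F K = 3) {v : V} (hv : R v = 0) (hv0 : v ≠ 0) :
    ∃ (f e : V) (t : F), Std R v f e t := by
  obtain ⟨x, hx⟩ : ∃ x, QuadraticMap.polar R x v = 1 := by
    obtain ⟨y, hy⟩ : ∃ y, QuadraticMap.polar R v y ≠ 0 := by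
      by_contra hc
      push Not at hc
      exact hv0 (E.nd v hc)
    exact ⟨(QuadraticMap.polar R v y)⁻¹ • y, by
      rw [QuadraticMap.polar_smul_left, QuadraticMap.polar_comm R y v, smul_eq_mul, inv_mul_cancel₀ hy]⟩
  obtain ⟨f, hf⟩ : ∃ f, f = x + (-R x) • v := ⟨_, rfl⟩
  have hfv : QuadraticMap.polar R f v = 1 := by
    rw [hf, QuadraticMap.polar_add_left, QuadraticMap.polar_smul_left, quad_polar_self, hv, hx]
    simp
  have hff : R f = 0 := by
    rw [hf, quad_add, quad_smul, hv, QuadraticMap.polar_smul_right, hx]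
    simp
  exact ⟨f, exists_std_of_pair E hd hr hv hff hfv⟩

/-- A map sending singular vectors to singular vectors is semilinear. -/
theorem isSemi_of_sing [FiniteDimensional F K] [Finite K] (hr : Module.finrank F K = 3) {v f e : V} {t : F}
    (S : Std R v f e t) {g : qAut Q} (hg : ∀ x, R x = 0 → R (g.1 x) = 0) : IsSemi K g := by
  have hline : ∀ x, R x = 0 → x ≠ 0 → ∀ k : K, ∃ k' : K, g.1 (k • x) = k' • g.1 x := fun x hx hx0 k => by
    obtain ⟨k', hk'⟩ := sing_collinear E hd (hg x hx) (hg (k • x) (by rw [quad_smul, hx, mul_zero])) (by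
      have h1 := hg (x + k • x) (by rw [show x + k • x = (1 + k) • x by module, quad_smul, hx, mul_zero])
      rw [map_add, quad_add, hg x hx, hg (k • x) (by rw [quad_smul, hx, mul_zero])] at h1
      simpa using h1) (by rwa [ne_eq, LinearEquiv.map_eq_zero_iff])
    exact ⟨k', hk'.symm⟩
  choose σv hσv using hline v S.sv S.v0
  choose σf hσf using hline f S.sf S.f0
  obtain ⟨μ, hμ⟩ : ∃ μ, μ = QuadraticMap.polar R (g.1 f) (g.1 v) := ⟨_, rfl⟩
  have hgv0 : g.1 v ≠ 0 := by rw [ne_eq, LinearEquiv.map_eq_zero_iff]; exact S.v0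
  have hμ0 : μ ≠ 0 := fun h => by
    obtain ⟨k', hk'⟩ := sing_collinear E hd (hg v S.sv) (hg f S.sf) (by
      rw [QuadraticMap.polar_comm, ← hμ, h]) hgv0
    have hinj : Function.Injective σv := fun a b hab =>
      smul_left_injective K S.v0 (g.1.injective (by rw [hσv, hσv, hab]))
    obtain ⟨k, rfl⟩ := Finite.injective_iff_surjective.1 hinj k'
    rw [← hσv] at hk'
    have h1 := congrArg (fun z => QuadraticMap.polar R z v) (g.1.injective hk')
    simp only [QuadraticMap.polar_smul_left, quad_polar_self, S.sv, S.fv, mul_zero, smul_zero] at h1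
    exact zero_ne_one h1
  obtain ⟨w, hw⟩ : ∃ w, w = μ⁻¹ • g.1 f := ⟨_, rfl⟩
  have hgf : g.1 f = μ • w := by rw [hw, smul_inv_smul₀ hμ0]
  obtain ⟨e', t', S'⟩ := exists_std_of_pair E hd hr (hg v S.sv) (f := w)
    (by rw [hw, quad_smul, hg f S.sf, mul_zero])
    (by rw [hw, QuadraticMap.polar_smul_left, ← hμ, smul_eq_mul, inv_mul_cancel₀ hμ0])
  have hext : ∀ a b c a' b' c' : K, a • g.1 v + b • e' + c • w = a' • g.1 v + b' • e' + c' • w →
      a = a' ∧ b = b' ∧ c = c' := fun a b c a' b' c' h => by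
    have h1 := congrArg (fun z => QuadraticMap.polar R z w) h
    have h2 := congrArg (fun z => QuadraticMap.polar R z e') h
    have h3 := congrArg (fun z => QuadraticMap.polar R z (g.1 v)) h
    simp only [S'.pol_f, S'.pol_e, S'.pol_v] at h1 h2 h3
    exact ⟨h1, mul_right_cancel₀ (mul_ne_zero E.two' S'.t0') h2, h3⟩
  choose α β γ habc using fun k : K => S'.span (g.1 (k • e))
  obtain ⟨τ, hτ⟩ : ∃ τ, τ = algebraMap F K t := ⟨_, rfl⟩
  -- the singular vectors off the two lines
  have hp : ∀ c k : K, g.1 (k • (f + c • e + (-(c * c * τ)) • v)) =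
      (α (k * c) + σv (k * -(c * c * τ))) • g.1 v + β (k * c) • e' + (σf k * μ + γ (k * c)) • w := fun c k => by
    rw [smul_add, smul_add, smul_smul, smul_smul, map_add, map_add, hσf, hσv, habc, hgf]
    module
  have hkey : ∀ c k : K, β (k * c) * (σf 1 * μ + γ c) = β c * (σf k * μ + γ (k * c)) := fun c k => by
    have hs : R (f + c • e + (-(c * c * τ)) • v) = 0 := by
      rw [show f + c • e + (-(c * c * τ)) • v = (-(c * c * τ)) • v + c • e + (1 : K) • f by module, S.quad, hτ]
      ring
    have h0 : f + c • e + (-(c * c * τ)) • v ≠ 0 := fun h => by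
      have h1 := congrArg (fun z => QuadraticMap.polar R z v) h
      rw [show f + c • e + (-(c * c * τ)) • v = (-(c * c * τ)) • v + c • e + (1 : K) • f by module] at h1
      simp only [S.pol_v, QuadraticMap.polar_zero_left] at h1
      exact one_ne_zero h1
    obtain ⟨l, hl⟩ := hline _ hs h0 k
    have h1 := hp c 1
    rw [one_smul, one_mul, one_mul] at h1
    rw [hp c k, h1, smul_add, smul_add, smul_smul, smul_smul, smul_smul] at hl
    obtain ⟨-, h2, h3⟩ := hext _ _ _ _ _ _ hl
    rw [h2, h3]
    ring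
  have hσ1 : σv 1 = 1 ∧ σf 1 = 1 :=
    ⟨smul_left_injective K hgv0 (by show σv 1 • g.1 v = (1 : K) • g.1 v; rw [← hσv, one_smul, one_smul]),
      smul_left_injective K (by rw [ne_eq, LinearEquiv.map_eq_zero_iff]; exact S.f0 : g.1 f ≠ 0)
        (by show σf 1 • g.1 f = (1 : K) • g.1 f; rw [← hσf, one_smul, one_smul])⟩
  have hneg : ∀ k : K, α (-k) = -α k ∧ β (-k) = -β k ∧ γ (-k) = -γ k := fun k => hext _ _ _ _ _ _ (by
    rw [← habc, neg_smul, map_neg, habc]
    module)
  have hfk : ∀ k : K, β k = β 1 * σf k ∧ β k * γ 1 = β 1 * γ k := fun k => by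
    have h1 := hkey 1 k
    have h2 := hkey (-1) k
    rw [mul_one, hσ1.2, one_mul] at h1
    rw [mul_neg_one, hσ1.2, one_mul, (hneg k).2.1, (hneg k).2.2, (hneg 1).2.1, (hneg 1).2.2] at h2
    constructor
    · refine mul_left_cancel₀ (mul_ne_zero E.two' hμ0) ?_
      linear_combination h1 - h2
    · refine mul_left_cancel₀ E.two' ?_
      linear_combination h1 + h2
  have hβ1 : β 1 ≠ 0 := fun h => by
    obtain ⟨z, hz⟩ := g.1.surjective e'
    obtain ⟨a, b, c, rfl⟩ := S.span z
    rw [map_add, map_add, hσv, habc, hσf, hgf, (hfk b).1, h, zero_mul] at hz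
    have h2 := (hext (σv a + α b) 0 (γ b + σf c * μ) 0 1 0 (by
      linear_combination (norm := module) hz)).2.1
    exact zero_ne_one h2
  have hγ : ∀ k, γ k = γ 1 * σf k := fun k => mul_left_cancel₀ hβ1 (by
    rw [← (hfk k).2, (hfk k).1]; ring)
  have hmul : ∀ c k : K, σf (k * c) = σf k * σf c := fun c k => by
    have h1 := hkey c k
    rw [hσ1.2, one_mul, (hfk c).1, (hfk (k * c)).1, hγ c, hγ (k * c)] at h1
    exact mul_left_cancel₀ (mul_ne_zero hβ1 hμ0) (by linear_combination h1)
  -- the same from the other side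
  have hp' : ∀ c k : K, g.1 (k • (v + c • e + (-(c * c * τ)) • f)) =
      (σv k + α (k * c)) • g.1 v + β (k * c) • e' + (σf (k * -(c * c * τ)) * μ + γ (k * c)) • w := fun c k => by
    rw [smul_add, smul_add, smul_smul, smul_smul, map_add, map_add, hσf, hσv, habc, hgf]
    module
  have hkey' : ∀ c k : K, β (k * c) * (σv 1 + α c) = β c * (σv k + α (k * c)) := fun c k => by
    have hs : R (v + c • e + (-(c * c * τ)) • f) = 0 := by
      rw [show v + c • e + (-(c * c * τ)) • f = (1 : K) • v + c • e + (-(c * c * τ)) • f by module, S.quad, hτ]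
      ring
    have h0 : v + c • e + (-(c * c * τ)) • f ≠ 0 := fun h => by
      have h1 := congrArg (fun z => QuadraticMap.polar R z f) h
      rw [show v + c • e + (-(c * c * τ)) • f = (1 : K) • v + c • e + (-(c * c * τ)) • f by module] at h1
      simp only [S.pol_f, QuadraticMap.polar_zero_left] at h1
      exact one_ne_zero h1
    obtain ⟨l, hl⟩ := hline _ hs h0 k
    have h1 := hp' c 1
    rw [one_smul, one_mul, one_mul] at h1
    rw [hp' c k, h1, smul_add, smul_add, smul_smul, smul_smul, smul_smul] at hl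
    obtain ⟨h3, h2, -⟩ := hext _ _ _ _ _ _ hl
    rw [h2, h3]
    ring
  have hvk : ∀ k, σv k = σf k ∧ α k = α 1 * σf k := fun k => by
    have h1 := hkey' 1 k
    have h2 := hkey' (-1) k
    rw [mul_one, hσ1.1, (hfk k).1] at h1
    rw [mul_neg_one, hσ1.1, (hneg k).1, (hneg k).2.1, (hneg 1).1, (hneg 1).2.1, (hfk k).1] at h2
    constructor
    · refine mul_left_cancel₀ (mul_ne_zero E.two' hβ1) ?_
      linear_combination -h1 + h2
    · refine mul_left_cancel₀ (mul_ne_zero E.two' hβ1) ?_
      linear_combination -h1 - h2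
  refine fun k => ⟨σf k, fun x => ?_⟩
  obtain ⟨a, b, c, rfl⟩ := S.span x
  rw [smul_add, smul_add, smul_smul, smul_smul, smul_smul, map_add, map_add, map_add, map_add, hσv, hσv, hσf, hσf,
    habc, habc, (hfk b).1, (hfk (k * b)).1, hγ b, hγ (k * b), (hvk a).1, (hvk (k * a)).1, (hvk b).2,
    (hvk (k * b)).2, hmul, hmul, hmul]
  module

end CfsgLib.Classical22.OrthField.Cubic
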