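/-
The stabiliser of a singular line inside the stabiliser of one of its vectors.
-/
import Cfsg.Agent.Lib.Classical22.OrthFieldThree.Stab

set_option autoImplicit false
set_option linter.all false

namespace CfsgLib.Classical22.OrthField.Cubic

open CfsgLib.Classical

universe u

variable {F : Type u} [Field F] {K : Type*} [Field K] [Algebra F K]
variable {V : Type u} [AddCommGroup V] [Module F V] [Module K V] [IsScalarTower F K V]
variable {Q : QuadraticForm F V} {R : QuadraticForm K V} {M : Subgroup (qAut Q)}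

/-- The stabiliser of a vector. -/
def vStab (Q : QuadraticForm F V) (v : V) : Subgroup (qAut Q) where
  carrier := {g | g.1 v = v}
  mul_mem' := fun {a b} (ha : a.1 v = v) (hb : b.1 v = v) => by
    show (a * b).1 v = v
    rw [qAut_mul_apply, hb, ha]
  one_mem' := rfl
  inv_mem' := fun {a} (ha : a.1 v = v) => by
    show (a⁻¹).1 v = v
    conv_lhs => rw [← ha, qInv_apply_self]

lemma mem_vStab {v : V} {g : qAut Q} : g ∈ vStab Q v ↔ g.1 v = v := Iff.rfl

/-- The part along the anisotropic vector of the image of the opposite singular vector. -/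
noncomputable def etaK (R : QuadraticForm K V) (f e : V) (t : F) (x : qAut Q) : K :=
  QuadraticMap.polar R (x.1 f) e / (2 * algebraMap F K t)

variable [Fintype F] [Fintype K] [FiniteDimensional F K] [FiniteDimensional F V] [FiniteDimensional K V]
variable (E : Over Q R) {v f e : V} {t : F} (S : Std R v f e t)
include E S

omit [Fintype F] [FiniteDimensional F V] [FiniteDimensional K V] in
/-- Coordinates of the image of the opposite vector. -/
theorem act_f {x : qAut Q} {s : K ≃ₐ[F] K} {b : K} (hx : Act R v e x (1 : K) s b) :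
    ∃ a : K, x.1 f = a • v + etaK R f e t x • e + f := by
  obtain ⟨a, c, d, h⟩ := S.span (x.1 f)
  have hd : d = 1 := sub_eq_zero.1 (E.trace_ext fun z => by
    obtain ⟨k, rfl⟩ := s.surjective z
    have h1 := qAut_polar x f (k • v)
    rw [hx.line, one_mul, E.polar, E.polar, QuadraticMap.polar_smul_right, QuadraticMap.polar_smul_right, h, S.pol_v,
      S.fv, smul_eq_mul, smul_eq_mul, mul_one] at h1
    rw [mul_sub, map_sub, h1, mul_one, Algebra.trace_eq_of_algEquiv, sub_self])
  subst hd
  refine ⟨a, ?_⟩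
  rw [etaK, h, S.pol_e, mul_div_cancel_right₀ _ (mul_ne_zero E.two' S.t0'), one_smul]

omit [Fintype F] [FiniteDimensional F V] [FiniteDimensional K V] in
/-- The cocycle rule. -/
theorem etaK_mul {x y : qAut Q} {s s' : K ≃ₐ[F] K} {b' : K} (hx : Act R v e x (1 : K) s 1)
    (hy : Act R v e y (1 : K) s' b') : etaK R f e t (x * y) = etaK R f e t x + s (etaK R f e t y) := by
  obtain ⟨a, ha⟩ := act_f E S hy
  obtain ⟨a', ha'⟩ := act_f E S hx
  obtain ⟨c, hc⟩ := hx.mid (etaK R f e t y)
  have h : (x * y).1 f = (s a + c + a') • v + (etaK R f e t x + s (etaK R f e t y)) • e + (1 : K) • f := by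
    rw [qAut_mul_apply, ha, map_add, map_add, hx.line, hc, ha']
    module
  conv_lhs => rw [etaK, h, S.pol_e, mul_div_cancel_right₀ _ (mul_ne_zero E.two' S.t0')]

omit [Fintype F] [FiniteDimensional F V] [FiniteDimensional K V] in
theorem etaK_uu (c : K) : etaK R f e t (uu E v e c) = c := by
  rw [etaK, uu_f E S, show f + c • e - (c * c * algebraMap F K t) • v =
    (-(c * c * algebraMap F K t)) • v + c • e + (1 : K) • f by module, S.pol_e,
    mul_div_cancel_right₀ _ (mul_ne_zero E.two' S.t0')]

omit [Fintype F] [Fintype K] [FiniteDimensional F K] [FiniteDimensional F V] [FiniteDimensional K V] in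
/-- The vectors fixed by a root element. -/
theorem uu_fix {c : K} (hc : c ≠ 0) {z : V} (hz : (uu E v e c).1 z = z) : z ∈ lineF F (K := K) v := by
  obtain ⟨a, b, d, rfl⟩ := S.span z
  rw [uu_apply E S, S.pol_v, S.pol_e] at hz
  have h1 := congrArg (fun w => QuadraticMap.polar R w e) hz
  simp only [QuadraticMap.polar_sub_left, QuadraticMap.polar_add_left, QuadraticMap.polar_smul_left, S.ee, S.ve,
    S.fe, smul_eq_mul, mul_zero, sub_zero, zero_add, add_zero] at h1
  have h2t : (2 : K) * algebraMap F K t ≠ 0 := mul_ne_zero E.two' S.t0'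
  have hd : d = 0 := by
    have : d * (c * (2 * algebraMap F K t)) = 0 := by linear_combination h1
    exact (mul_eq_zero.1 this).resolve_right (mul_ne_zero hc h2t)
  subst hd
  have h2 := congrArg (fun w => QuadraticMap.polar R w f) hz
  simp only [QuadraticMap.polar_sub_left, QuadraticMap.polar_add_left, QuadraticMap.polar_smul_left, S.vf,
    QuadraticMap.polar_comm R e f, S.fe, quad_polar_self, S.sf, smul_eq_mul, mul_zero, zero_mul, add_zero,
    mul_one, zero_sub, sub_eq_self] at h2
  have hb : b = 0 := by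
    have : b * (c * (2 * algebraMap F K t)) = 0 := by linear_combination h2
    exact (mul_eq_zero.1 this).resolve_right (mul_ne_zero hc h2t)
  subst hb
  exact mem_lineF.2 ⟨a, by rw [zero_smul, zero_smul, add_zero, add_zero]⟩

omit [Fintype F] in
/-- The line is the only three-dimensional subspace stable under the root group. -/
theorem eq_line_of_inv (hr : Module.finrank F K = 3) {Y : Submodule F V} (h3 : Module.finrank F Y = 3)
    (hinv : ∀ c : K, ∀ z ∈ Y, (uu E v e c).1 z ∈ Y) : Y = lineF F (K := K) v := by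
  have hline : Module.finrank F (lineF F (K := K) v) = 3 := by
    have h1 := Module.finrank_mul_finrank F K (Submodule.span K {v})
    rw [hr, finrank_span_singleton S.v0, mul_one] at h1
    exact h1.symm
  have h2t : (2 : K) * algebraMap F K t ≠ 0 := mul_ne_zero E.two' S.t0'
  refine Submodule.eq_of_le_of_finrank_eq (fun z hz => ?_) (h3.trans hline.symm)
  by_contra hzl
  obtain ⟨a, b, d, rfl⟩ := S.span z
  have hW : lineF F (K := K) v ≤ Y := fun w hw => by
    obtain ⟨k, rfl⟩ := mem_lineF.1 hw
    by_cases hd : d = 0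
    · subst hd
      have hb : b ≠ 0 := fun h => hzl (mem_lineF.2 ⟨a, by rw [h, zero_smul, zero_smul, add_zero, add_zero]⟩)
      have h := Y.sub_mem (hinv (-k / (b * (2 * algebraMap F K t))) _ hz) hz
      rw [zero_smul, add_zero, uu_perp E S, show -k / (b * (2 * algebraMap F K t)) * b * (2 * algebraMap F K t) = -k by
        rw [mul_assoc, div_mul_cancel₀ _ (mul_ne_zero hb h2t)]] at h
      convert h using 1
      module
    · have h1 := Y.sub_mem (hinv 1 _ hz) hz
      obtain ⟨m, hm⟩ : ∃ m : K, (uu E v e 1).1 (a • v + b • e + d • f) - (a • v + b • e + d • f) = m • v + d • e :=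
        ⟨-(b * (2 * algebraMap F K t) + algebraMap F K t * d), by
          rw [uu_apply E S, S.pol_v, S.pol_e]; module⟩
      rw [hm] at h1
      have h := Y.sub_mem (hinv (-k / (d * (2 * algebraMap F K t))) _ h1) h1
      rw [uu_perp E S, show -k / (d * (2 * algebraMap F K t)) * d * (2 * algebraMap F K t) = -k by
        rw [mul_assoc, div_mul_cancel₀ _ (mul_ne_zero hd h2t)]] at h
      convert h using 1
      module
  exact hzl (Submodule.eq_of_le_of_finrank_eq hW (hline.trans h3.symm) ▸ hz)

variable (hn : 5 ≤ Module.finrank F V) (hM : SemiMem K M) (hT : Tight R M v)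
variable (hME : M ≤ eichGroup Q) (hr : Module.finrank F K = 3)
include hn hM hT hME hr

/-- The stabiliser of the line in the stabiliser of the vector acts by field automorphisms. -/
theorem act_of_mem {x : qAut Q} (hx : x ∈ M) (hv : x.1 v = v) (hst : x ∈ qStab Q (lineF F (K := K) v)) :
    ∃ s : K ≃ₐ[F] K, Act R v e x (1 : K) s 1 := by
  obtain ⟨l, hl0, s, b, hA, hb⟩ := exists_act E S hn hM hT hx hst
  have hl : l = 1 := smul_left_injective K S.v0 (by
    have h := hA.line 1
    rw [one_smul, hv, map_one, mul_one] at h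
    show l • v = (1 : K) • v
    rw [one_smul, ← h])
  subst hl
  have hsb : s b = b := by
    rcases mul_self_eq_one_iff.1 hb with rfl | rfl
    · exact map_one s
    · rw [map_neg, map_one]
  have h3 := act_pow hA (map_one s) hsb 3
  rw [aut_pow_three hr, one_pow] at h3
  have hb3 : b ^ 3 = b := by rw [pow_succ, sq, hb, one_mul]
  rw [hb3] at h3
  obtain ⟨hb1, -⟩ := signs E S hn hM hT hME hr (M.pow_mem hx 3) h3 (one_mul 1) hb
  exact ⟨s, hb1 ▸ hA⟩

/-- An element with nonzero trace part is, or cubes to, a root element. -/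
theorem exists_root_of_trace_ne {x : qAut Q} (hx : x ∈ M) (hv : x.1 v = v) (hst : x ∈ qStab Q (lineF F (K := K) v))
    (hφ : Algebra.trace F K (etaK R f e t x) ≠ 0) : ∃ c : K, c ≠ 0 ∧ (x = uu E v e c ∨ x ^ 3 = uu E v e c) := by
  classical
  obtain ⟨s, hs⟩ := act_of_mem E S hn hM hT hME hr hx hv hst
  by_cases hs1 : s = 1
  · subst hs1
    obtain ⟨c, rfl⟩ := eq_uu_of_rad E S (uu_mem' E hn S hM) hT hx (rad_of_act E S hs)
    refine ⟨c, fun h => hφ ?_, Or.inl rfl⟩
    rw [etaK_uu E S, h, map_zero]
  · have hs3 := aut_pow_three hr s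
    have h3 := act_pow hs (map_one s) (map_one s) 3
    rw [hs3, one_pow] at h3
    obtain ⟨c, hc⟩ := eq_uu_of_rad E S (uu_mem' E hn S hM) hT (M.pow_mem hx 3) (rad_of_act E S h3)
    refine ⟨c, fun h => hφ ((algebraMap F K).injective ?_), Or.inr hc⟩
    have h2 := act_pow hs (map_one s) (map_one s) 2
    rw [one_pow] at h2
    have e3 : etaK R f e t (x ^ 3) =
        etaK R f e t x + s (etaK R f e t x) + s (s (etaK R f e t x)) := by
      rw [show x ^ 3 = x * (x * x) by rw [pow_succ', sq], etaK_mul E S hs (show Act R v e (x * x) (1 : K) (s * s) 1 by simpa using act_mul hs hs), etaK_mul E S hs hs,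
        map_add, add_assoc]
    have huniv : (Finset.univ : Finset (K ≃ₐ[F] K)) = {1, s, s * s} := by
      refine (Finset.eq_univ_of_card _ ?_).symm
      have hne2 : s * s ≠ 1 := fun h => hs1 (by rwa [pow_succ, sq, h, one_mul] at hs3)
      rw [← Nat.card_eq_fintype_card, IsGalois.card_aut_eq_finrank, hr, Finset.card_insert_of_notMem,
        Finset.card_insert_of_notMem, Finset.card_singleton]
      · simp only [Finset.mem_singleton]; exact fun h => hs1 (left_eq_mul.1 h)
      · simp only [Finset.mem_insert, Finset.mem_singleton, not_or]; exact ⟨fun h => hs1 h.symm, fun h => hne2 h.symm⟩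
    rw [map_zero, trace_eq_sum_automorphisms, huniv, Finset.sum_insert, Finset.sum_pair, ← add_assoc]
    · show etaK R f e t x + s (etaK R f e t x) + (s * s) (etaK R f e t x) = 0
      rw [AlgEquiv.mul_apply, ← e3, hc, etaK_uu E S, h]
    · exact fun h => hs1 (left_eq_mul.1 h)
    · simp only [Finset.mem_insert, Finset.mem_singleton, not_or]
      exact ⟨fun h => hs1 h.symm, fun h => (fun h' => hs1 (by rwa [pow_succ, sq, h', one_mul] at hs3)) h.symm⟩

/-- A root element fixes only one line of the orbit, for more than three scalars. -/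
theorem semireg (hq : 3 < Fintype.card F) {g : qAut Q} (hg : g ∈ M) (hgv : g.1 v = v) {c : K} (hc : c ≠ 0)
    (hu : g⁻¹ * uu E v e c * g ∈ qStab Q (lineF F (K := K) v)) : g ∈ qStab Q (lineF F (K := K) v) := by
  classical
  obtain ⟨W, hW⟩ : ∃ W, W = lineF F (K := K) v := ⟨_, rfl⟩
  rw [← hW] at hu ⊢
  obtain ⟨n, hn'⟩ : ∃ n : F → qAut Q, ∀ a, n a = g⁻¹ * uu E v e (algebraMap F K a * c) * g := ⟨_, fun a => rfl⟩
  have hfix : ∀ a : F, a ≠ 0 → (∀ w ∈ W, (n a).1 w = w) → g ∈ qStab Q W := fun a ha h =>
    mem_qStab_of_maps Q fun w hw => by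
      rw [hW]
      refine uu_fix E S (c := algebraMap F K a * c) (mul_ne_zero ((map_ne_zero _).2 ha) hc) ?_
      have h1 := congrArg g.1 (h w hw)
      rwa [hn', qAut_mul_apply, qAut_mul_apply, qApply_inv_self] at h1
  have hY : ∀ w ∈ W, (g⁻¹ * uu E v e c * g).1 w ∈ W := fun w hw => apply_mem_of_qStab Q hu hw
  have hmem : ∀ a : F, n a ∈ qStab Q W := fun a => mem_qStab_of_maps Q fun w hw => by
    obtain ⟨x, hx⟩ : ∃ x, x = g.1 w := ⟨_, rfl⟩
    have h1 : (g⁻¹).1 ((uu E v e c).1 x) ∈ W := by
      have := hY w hw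
      rwa [qAut_mul_apply, qAut_mul_apply, ← hx] at this
    have h2 : (g⁻¹).1 ((uu E v e c).1 ((uu E v e c).1 x)) ∈ W := by
      have := hY _ h1
      rwa [qAut_mul_apply, qAut_mul_apply, qApply_inv_self] at this
    have hid : (uu E v e (algebraMap F K a * c)).1 x = x + a • ((uu E v e c).1 x - x) +
        ((a * a - a) / 2) • ((uu E v e c).1 ((uu E v e c).1 x) - (2 : F) • (uu E v e c).1 x + x) := by
      obtain ⟨A, B, D, rfl⟩ := S.span x
      have e1 : (uu E v e c).1 (A • v + B • e + D • f) = (A - (c * (B * (2 * algebraMap F K t)) +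
          c * c * algebraMap F K t * D)) • v + (B + D * c) • e + D • f := by
        rw [uu_apply E S, S.pol_v, S.pol_e]; module
      rw [e1, uu_apply E S, uu_apply E S, S.pol_v, S.pol_e, S.pol_v, S.pol_e]
      simp only [← algebraMap_smul K a, ← algebraMap_smul K ((a * a - a) / 2), ← algebraMap_smul K (2 : F), map_sub,
        map_mul, map_div₀, map_ofNat]
      have := E.two'
      match_scalars <;> field_simp <;> ring
    rw [hn', qAut_mul_apply, qAut_mul_apply, ← hx, hid, map_add, map_add, map_smul, map_smul, map_sub, map_add,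
      map_sub, map_smul, hx, qInv_apply_self, ← hx]
    exact W.add_mem (W.add_mem hw (W.smul_mem _ (W.sub_mem h1 hw)))
      (W.smul_mem _ (W.add_mem (W.sub_mem h2 (W.smul_mem _ h1)) hw))
  have hnM : ∀ a, n a ∈ M := fun a => by
    rw [hn']; exact M.mul_mem (M.mul_mem (M.inv_mem hg) (uu_mem' E hn S hM _)) hg
  have hnv : ∀ a, (n a).1 v = v := fun a => by
    have h := uu_fix_v E S (algebraMap F K a * c) 1
    rw [one_smul] at h
    rw [hn', qAut_mul_apply, qAut_mul_apply, hgv, h]
    conv_lhs => rw [← hgv, qInv_apply_self]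
  choose s hs using fun a => act_of_mem E S hn hM hT hME hr (hnM a) (hnv a) (hW ▸ hmem a)
  have hnadd : ∀ a b, n (a + b) = n a * n b := fun a b => by
    rw [hn', hn', hn', map_add, add_mul, ← uu_mul E S]; group
  obtain ⟨a, b, hab, hsab⟩ := Fintype.exists_ne_map_eq_of_card_lt s (by
    rw [← Nat.card_eq_fintype_card (α := K ≃ₐ[F] K), IsGalois.card_aut_eq_finrank, hr]; exact hq)
  have hab' := act_mul (hs (a - b)) (hs b)
  rw [← hnadd, sub_add_cancel] at hab'
  have h1 := (act_unique E S (hs a) hab' one_ne_zero).2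
  rw [hsab, eq_comm, mul_eq_right] at h1
  refine hfix (a - b) (sub_ne_zero.2 hab) fun w hw => ?_
  obtain ⟨k, rfl⟩ := mem_lineF.1 (hW ▸ hw : w ∈ lineF F (K := K) v)
  rw [(hs (a - b)).line, h1, one_mul]
  rfl

end CfsgLib.Classical22.OrthField.Cubic
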