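/-
An odd group normalising an abelian group of prime exponent in a nine-dimensional orthogonal group.
-/
import Cfsg.Agent.Lib.Classical.QuadSpace
import Mathlib.GroupTheory.FiniteAbelian.Duality
import Mathlib.RingTheory.RootsOfUnity.AlgebraicallyClosed
import Mathlib.LinearAlgebra.Matrix.BilinearForm
import Mathlib.GroupTheory.Perm.Basic
import Mathlib.GroupTheory.Index
import Mathlib.FieldTheory.IsAlgClosed.AlgebraicClosure

set_option autoImplicit false
set_option linter.all false

namespace CfsgLib.Classical22.OrthField.Cubic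

open CfsgLib.Classical
open scoped Matrix

/-- An odd order group of permutations commuting with a free involution of at most nine points. -/
theorem card_dvd_three {X : Type*} [Fintype X] (hX : Fintype.card X ≤ 9) (ι : X → X) (hι : ∀ x, ι (ι x) = x)
    (hfree : ∀ x, ι x ≠ x) (P : Subgroup (Equiv.Perm X)) (hodd : Odd (Nat.card P))
    (hcomm : ∀ σ ∈ P, ∀ x, σ (ι x) = ι (σ x)) : Nat.card P ∣ 3 := by
  classical
  let st : Setoid X :=
    ⟨fun x y => y = x ∨ y = ι x, fun x => Or.inl rfl, fun {x y} h => by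
      rcases h with rfl | rfl
      · exact Or.inl rfl
      · exact Or.inr (hι x).symm,
      fun {x y z} h h' => by
      rcases h with rfl | rfl
      · exact h'
      · rcases h' with rfl | rfl
        · exact Or.inr rfl
        · exact Or.inl (hι x)⟩
  haveI : Fintype (Quotient st) := Fintype.ofFinite _
  have hY : 2 * Fintype.card (Quotient st) ≤ 9 := by
    refine le_trans (le_of_eq ?_) (le_trans (Fintype.card_le_of_injective
      (fun p : Bool × Quotient st => bif p.1 then p.2.out else ι p.2.out) ?_) hX)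
    · rw [Fintype.card_prod, Fintype.card_bool]
    · rintro ⟨b, q⟩ ⟨b', q'⟩ h
      have hq : ∀ (b : Bool) (q : Quotient st),
          (⟦(bif b then q.out else ι q.out)⟧ : Quotient st) = q := fun b q => by
        cases b
        · exact Eq.trans (Quotient.sound (Or.inr (hι q.out).symm)) q.out_eq
        · exact q.out_eq
      have := congrArg (fun x => (⟦x⟧ : Quotient st)) h
      simp only [hq] at this
      subst this
      cases b <;> cases b' <;> first | rfl | exact absurd h (hfree _) | exact absurd h.symm (hfree _)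
  have hcon : ∀ σ : P, ∀ x y, st.r x y ↔ st.r (σ.1 x) (σ.1 y) := fun σ x y => by
    show (y = x ∨ y = ι x) ↔ (σ.1 y = σ.1 x ∨ σ.1 y = ι (σ.1 x))
    rw [← hcomm _ σ.2, σ.1.injective.eq_iff, σ.1.injective.eq_iff]
  let θ : P →* Equiv.Perm (Quotient st) :=
    { toFun := fun σ => Quotient.congr σ.1 (hcon σ)
      map_one' := Equiv.ext fun q => Quotient.inductionOn q fun x => rfl
      map_mul' := fun σ σ' => Equiv.ext fun q => Quotient.inductionOn q fun x => rfl }
  have hinj : Function.Injective θ := (injective_iff_map_eq_one θ).2 fun σ hσ => by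
    have h2 : σ ^ 2 = 1 := Subtype.ext (Equiv.ext fun x => by
      have h : (⟦σ.1 x⟧ : Quotient st) = ⟦x⟧ := congrArg (fun π : Equiv.Perm (Quotient st) => π ⟦x⟧) hσ
      show ((σ ^ 2 : P) : Equiv.Perm X) x = x
      rw [SubmonoidClass.coe_pow, sq, Equiv.Perm.mul_apply]
      rcases Quotient.exact h with h1 | h1
      · rw [← h1, ← h1]
      · have h1' : σ.1 x = ι x := by
          conv_rhs => rw [h1, hι]
        rw [h1', hcomm _ σ.2, h1', hι])
    refine orderOf_eq_one_iff.1 ((Nat.dvd_prime Nat.prime_two).1 (orderOf_dvd_of_pow_eq_one h2) |>.resolve_right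
      fun h => ?_)
    exact (Nat.not_even_iff_odd.2 hodd) (even_iff_two_dvd.2 (h ▸ orderOf_dvd_natCard σ))
  have h24 : Nat.card P ∣ 24 := by
    refine (Subgroup.card_dvd_of_injective θ hinj).trans ?_
    rw [Nat.card_perm, Nat.card_eq_fintype_card]
    exact Nat.factorial_dvd_factorial (show Fintype.card (Quotient st) ≤ 4 by omega)
  refine Nat.Coprime.dvd_of_dvd_mul_left (?_ : (Nat.card P).Coprime 8) (show Nat.card P ∣ 8 * 3 from h24)
  exact (Nat.coprime_two_right.2 hodd).pow_right 3

variable {F : Type*} [Field F] [Finite F] {V : Type*} [AddCommGroup V] [Module F V] [FiniteDimensional F V]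
variable {Q : QuadraticForm F V}

/-- An odd group normalising an abelian group of exponent an odd prime acts with image of order dividing three. -/
theorem range_dvd_three (hQ : PolarNondeg Q) (hdim : Module.finrank F V ≤ 9) {r : ℕ} (hr : r.Prime) (hr2 : r ≠ 2)
    (hrF : (r : F) ≠ 0) (A : Subgroup (qAut Q)) (hcomm : ∀ a ∈ A, ∀ b ∈ A, a * b = b * a) (hexp : ∀ a ∈ A, a ^ r = 1)
    (S : Subgroup (qAut Q)) (hS : S ≤ Subgroup.normalizer (A : Set (qAut Q))) (hodd : Odd (Nat.card S))
    {C : Type*} [Group C] (ψ : S →* C) (hψ : ∀ s : S, (∀ a ∈ A, s.1 * a = a * s.1) → ψ s = 1) :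
    Nat.card ψ.range ∣ 3 := by
  classical
  haveI : Finite V := Module.finite_of_finite F
  haveI : Finite (V ≃ₗ[F] V) := Finite.of_injective _ DFunLike.coe_injective
  letI : CommGroup A := { (inferInstance : Group A) with mul_comm := fun a b => Subtype.ext (hcomm _ a.2 _ b.2) }
  haveI : Fintype A := Fintype.ofFinite A
  let L := AlgebraicClosure F
  have hexpA : ∀ a : A, a ^ r = 1 := fun a => Subtype.ext (hexp _ a.2)
  have hcard : (Fintype.card A : L) ≠ 0 := by
    haveI : Fact r.Prime := ⟨hr⟩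
    obtain ⟨k, hk⟩ := (IsPGroup.iff_card (p := r)).1 (show IsPGroup r A from fun a => ⟨1, by rw [pow_one, hexpA]⟩)
    rw [← Nat.card_eq_fintype_card, hk, Nat.cast_pow, ← map_natCast (algebraMap F L)]
    exact pow_ne_zero _ ((map_ne_zero _).2 hrF)
  haveI : NeZero ((Monoid.exponent A : ℕ) : F) := ⟨fun h => by
    rcases (Nat.dvd_prime hr).1 (Monoid.exponent_dvd_of_forall_pow_eq_one hexpA) with h1 | h1 <;> rw [h1] at h
    · exact one_ne_zero (α := F) (by simpa using h)
    · exact hrF h⟩
  haveI : HasEnoughRootsOfUnity L (Monoid.exponent A) := AlgebraicClosure.hasEnoughRootsOfUnity F _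
  haveI : Finite (A →* Lˣ) :=
    Finite.of_equiv A (CommGroup.monoidHom_mulEquiv_of_hasEnoughRootsOfUnity A L).some.toEquiv.symm
  haveI : Fintype (A →* Lˣ) := Fintype.ofFinite _
  obtain ⟨n, hn⟩ : ∃ n, n = Module.finrank F V := ⟨_, rfl⟩
  let b : Module.Basis (Fin n) F V := (Module.finBasis F V).reindex (finCongr hn.symm)
  let M : qAut Q →* Matrix (Fin n) (Fin n) L :=
    { toFun := fun g => (LinearMap.toMatrix b b g.1.toLinearMap).map (algebraMap F L)
      map_one' := by
        show (LinearMap.toMatrix b b LinearMap.id).map (algebraMap F L) = 1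
        rw [LinearMap.toMatrix_id, Matrix.map_one _ (map_zero _) (map_one _)]
      map_mul' := fun g h => by
        show (LinearMap.toMatrix b b (g.1.toLinearMap ∘ₗ h.1.toLinearMap)).map (algebraMap F L) = _
        rw [LinearMap.toMatrix_comp b b b, Matrix.map_mul] }
  have hMinj : ∀ g, M g = 1 → g = 1 := fun g hg => by
    have h1 : LinearMap.toMatrix b b g.1.toLinearMap = LinearMap.toMatrix b b LinearMap.id :=
      Matrix.map_injective (algebraMap F L).injective (by
        show _ = (LinearMap.toMatrix b b LinearMap.id).map (algebraMap F L)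
        rw [LinearMap.toMatrix_id, Matrix.map_one _ (map_zero _) (map_one _)]
        exact hg)
    exact Subtype.ext (LinearEquiv.toLinearMap_injective ((LinearMap.toMatrix b b).injective h1))
  -- the form
  let J : Matrix (Fin n) (Fin n) L := (LinearMap.BilinForm.toMatrix b (QuadraticMap.polarBilin Q)).map (algebraMap F L)
  have hJ : IsUnit J.det := by
    rw [show J.det = algebraMap F L (LinearMap.BilinForm.toMatrix b (QuadraticMap.polarBilin Q)).det from
      (RingHom.map_det _ _).symm]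
    refine IsUnit.map _ (isUnit_iff_ne_zero.2 ((LinearMap.BilinForm.nondegenerate_iff_det_ne_zero b).1
      ⟨fun x hx => hQ x fun w => by simpa using hx w, fun x hx => hQ x fun w => by
        rw [QuadraticMap.polar_comm]; simpa using hx w⟩))
  have hMJ : ∀ g : qAut Q, (M g)ᵀ * J * M g = J := fun g => by
    show ((LinearMap.toMatrix b b g.1.toLinearMap).map _)ᵀ * _ * (LinearMap.toMatrix b b g.1.toLinearMap).map _ = _
    rw [← Matrix.transpose_map, ← Matrix.map_mul, ← Matrix.map_mul, ← LinearMap.BilinForm.toMatrix_comp]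
    congr 1
    refine congrArg _ (LinearMap.ext fun x => LinearMap.ext fun y => ?_)
    simp only [LinearMap.BilinForm.comp_apply, QuadraticMap.polarBilin_apply_apply, LinearEquiv.coe_coe]
    exact qAut_polar g x y
  -- the projectors
  let e : (A →* Lˣ) → Matrix (Fin n) (Fin n) L := fun χ => ∑ a : A, ((χ a⁻¹ : Lˣ) : L) • M a.1
  have hMe : ∀ χ (a : A), M a.1 * e χ = ((χ a : Lˣ) : L) • e χ := fun χ a => by
    simp only [e, Matrix.mul_sum, Finset.smul_sum, smul_smul, mul_smul_comm, ← map_mul, ← Units.val_mul, ← Subgroup.coe_mul]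
    refine Fintype.sum_equiv (Equiv.mulLeft a) _ _ fun c => ?_
    simp only [Equiv.coe_mulLeft]
    rw [mul_inv, mul_inv_cancel_left]
  have horth : ∀ a : A, a ≠ 1 → ∑ χ : A →* Lˣ, ((χ a : Lˣ) : L) = 0 := fun a ha => by
    obtain ⟨χ₀, hχ₀⟩ := CommGroup.exists_apply_ne_one_of_hasEnoughRootsOfUnity A L ha
    have h : ((χ₀ a : Lˣ) : L) * ∑ χ : A →* Lˣ, ((χ a : Lˣ) : L) = 1 * ∑ χ : A →* Lˣ, ((χ a : Lˣ) : L) := by
      rw [one_mul, Finset.mul_sum]
      exact Fintype.sum_equiv (Equiv.mulLeft χ₀) _ _ fun χ => by simp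
    exact (mul_eq_mul_right_iff.1 h).resolve_left fun h' => hχ₀ (Units.ext h')
  have hsum : ∑ χ : A →* Lˣ, e χ = (Fintype.card A : L) • (1 : Matrix (Fin n) (Fin n) L) := by
    simp only [e]
    rw [Finset.sum_comm, Finset.sum_eq_single (1 : A)]
    · rw [← Finset.sum_smul]
      simp only [inv_one, map_one, Units.val_one, Finset.sum_const, Finset.card_univ, nsmul_eq_mul, mul_one,
        OneMemClass.coe_one]
      rw [← Nat.card_eq_fintype_card, ← Nat.card_eq_fintype_card (α := A),
        CommGroup.card_monoidHom_of_hasEnoughRootsOfUnity]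
    · intro a _ ha
      rw [← Finset.sum_smul, horth _ (inv_ne_one.2 ha), zero_smul]
    · exact fun h => absurd (Finset.mem_univ _) h
  let X := {χ : A →* Lˣ // χ ≠ 1 ∧ e χ ≠ 0}
  -- few weights
  have hX9 : Fintype.card X ≤ 9 := by
    have hcol : ∀ χ : X, ∃ j, (fun i => e χ.1 i j) ≠ 0 := fun χ => by
      by_contra hc
      push Not at hc
      exact χ.2.2 (Matrix.ext fun i j => congrFun (hc j) i)
    choose j hj using hcol
    obtain ⟨x, hx⟩ : ∃ x : X → Fin n → L, ∀ χ, x χ = fun i => e χ.1 i (j χ) := ⟨_, fun χ => rfl⟩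
    have heig : ∀ χ : X, ∀ a : A, M a.1 *ᵥ x χ = ((χ.1 a : Lˣ) : L) • x χ := fun χ a => by
      funext i
      have h := congrFun (congrFun (hMe χ.1 a) i) (j χ)
      rw [hx]
      simpa [Matrix.mulVec, dotProduct, Matrix.mul_apply] using h
    have hproj : ∀ χ χ' : X, χ ≠ χ' → e χ'.1 *ᵥ x χ = 0 := fun χ χ' hne => by
      obtain ⟨a, ha⟩ : ∃ a, χ.1 a ≠ χ'.1 a := by
        by_contra hc
        push Not at hc
        exact hne (Subtype.ext (MonoidHom.ext hc))
      simp only [e, Matrix.sum_mulVec, Matrix.smul_mulVec, heig, smul_smul, ← Finset.sum_smul]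
      have h0 : ∑ c : A, ((χ'.1 c⁻¹ : Lˣ) : L) * ((χ.1 c : Lˣ) : L) = 0 := by
        have h : ((χ'.1 a⁻¹ : Lˣ) : L) * ((χ.1 a : Lˣ) : L) * (∑ c : A, ((χ'.1 c⁻¹ : Lˣ) : L) * ((χ.1 c : Lˣ) : L)) =
            1 * ∑ c : A, ((χ'.1 c⁻¹ : Lˣ) : L) * ((χ.1 c : Lˣ) : L) := by
          rw [one_mul, Finset.mul_sum]
          refine Fintype.sum_equiv (Equiv.mulLeft a) _ _ fun c => ?_
          simp only [Equiv.coe_mulLeft, mul_inv, map_mul, Units.val_mul]
          ring
        refine (mul_eq_mul_right_iff.1 h).resolve_left fun h' => ha ?_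
        rw [← Units.val_mul, Units.val_eq_one, map_inv, inv_mul_eq_one] at h'
        exact h'.symm
      rw [h0, zero_smul]
    have hself : ∀ χ : X, e χ.1 *ᵥ x χ = (Fintype.card A : L) • x χ := fun χ => by
      simp only [e, Matrix.sum_mulVec, Matrix.smul_mulVec, heig, smul_smul, ← Units.val_mul, ← map_mul,
        inv_mul_cancel, map_one, Units.val_one, one_smul, Finset.sum_const, Finset.card_univ,
        Nat.cast_smul_eq_nsmul]
    have hli : LinearIndependent L x := Fintype.linearIndependent_iff.2 fun g hg χ' => by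
      have h := congrArg (fun z => e χ'.1 *ᵥ z) hg
      simp only [Matrix.mulVec_sum, Matrix.mulVec_smul, Matrix.mulVec_zero] at h
      rw [Finset.sum_eq_single χ' (fun χ _ hne => by rw [hproj χ χ' hne, smul_zero])
        (fun h => absurd (Finset.mem_univ _) h), hself, smul_smul, smul_eq_zero] at h
      exact (mul_eq_zero.1 (h.resolve_right (hx χ' ▸ hj χ'))).resolve_right hcard
    have h := hli.fintype_card_le_finrank
    rw [Module.finrank_fintype_fun_eq_card, Fintype.card_fin] at h
    omega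
  -- inversion
  have hinv : ∀ χ, e χ ≠ 0 → e χ⁻¹ ≠ 0 := fun χ h h0 => by
    refine h ?_
    have h1 : J * e χ = (e χ⁻¹)ᵀ * J := by
      simp only [e, Matrix.mul_sum, Matrix.transpose_sum, Matrix.sum_mul, Matrix.transpose_smul, Matrix.mul_smul,
        Matrix.smul_mul]
      refine Fintype.sum_equiv (Equiv.inv A) _ _ fun c => ?_
      simp only [Equiv.inv_apply, MonoidHom.inv_apply, inv_inv, ← map_inv]
      congr 1
      rw [Subgroup.coe_inv]
      conv_rhs => rw [← hMJ c.1]
      rw [← Matrix.mul_assoc, ← Matrix.mul_assoc, ← Matrix.transpose_mul, ← map_mul, mul_inv_cancel, map_one,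
        Matrix.transpose_one, Matrix.one_mul]
    rw [h0, Matrix.transpose_zero, Matrix.zero_mul] at h1
    rw [← Matrix.one_mul (e χ), ← Matrix.nonsing_inv_mul J hJ, Matrix.mul_assoc, h1, Matrix.mul_zero]
  have hodd' : ∀ χ : A →* Lˣ, χ⁻¹ = χ → χ = 1 := fun χ h => MonoidHom.ext fun a => by
    have h1 : χ a * χ a = 1 := by
      nth_rewrite 1 [← h]
      rw [MonoidHom.inv_apply, inv_mul_cancel]
    obtain ⟨j, hj⟩ := hr.odd_of_ne_two hr2
    have h2 : χ a ^ r = 1 := by rw [← map_pow, hexpA, map_one]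
    rwa [hj, pow_succ, pow_mul, sq, h1, one_pow, one_mul] at h2
  let ι : X → X := fun χ => ⟨χ.1⁻¹, fun h => χ.2.1 (MonoidHom.ext fun a => by
    have := DFunLike.congr_fun h a
    simpa using this), hinv _ χ.2.2⟩
  -- the permutations
  let c : S → (A ≃* A) := fun s =>
    { toFun := fun a => ⟨s.1⁻¹ * a.1 * s.1, (Subgroup.mem_normalizer_iff''.1 (hS s.2) _).1 a.2⟩
      invFun := fun a => ⟨s.1 * a.1 * s.1⁻¹, (Subgroup.mem_normalizer_iff.1 (hS s.2) _).1 a.2⟩
      left_inv := fun a => Subtype.ext (by group)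
      right_inv := fun a => Subtype.ext (by group)
      map_mul' := fun a a' => Subtype.ext (by simp only [Subgroup.coe_mul]; group) }
  have hce : ∀ (s : S) (χ : A →* Lˣ), e (χ.comp (c s).toMonoidHom) = M s.1 * e χ * M (s.1⁻¹) := fun s χ => by
    simp only [e, Matrix.mul_sum, Matrix.sum_mul, Matrix.mul_smul, Matrix.smul_mul, ← map_mul]
    refine Fintype.sum_equiv (c s).toEquiv _ _ fun a => ?_
    simp only [MulEquiv.toEquiv_eq_coe, EquivLike.coe_coe, MonoidHom.comp_apply, MulEquiv.coe_toMonoidHom, map_inv]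
    congr 2
    show a.1 = s.1 * (s.1⁻¹ * a.1 * s.1) * s.1⁻¹
    group
  let act : S → X → X := fun s χ => ⟨χ.1.comp (c s).toMonoidHom, fun h => χ.2.1 (MonoidHom.ext fun a => by
      have := DFunLike.congr_fun h ((c s).symm a)
      simpa using this), fun h => χ.2.2 (by
      rw [hce] at h
      have h' := congrArg (fun Z => M (s.1⁻¹) * Z * M s.1) h
      simp only [Matrix.mul_assoc, ← map_mul, inv_mul_cancel, map_one, Matrix.mul_one, Matrix.mul_zero,
        Matrix.zero_mul] at h'
      rwa [← Matrix.mul_assoc, ← map_mul, inv_mul_cancel, map_one, Matrix.one_mul] at h')⟩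
  have hact1 : ∀ χ, act 1 χ = χ := fun χ => Subtype.ext (MonoidHom.ext fun a => congrArg χ.1 (Subtype.ext (by
    show (1 : qAut Q)⁻¹ * a.1 * 1 = a.1
    group)))
  have hactmul : ∀ s s' χ, act (s * s') χ = act s (act s' χ) := fun s s' χ => Subtype.ext (MonoidHom.ext fun a =>
    congrArg χ.1 (Subtype.ext (by
      show (s.1 * s'.1)⁻¹ * a.1 * (s.1 * s'.1) = s'.1⁻¹ * (s.1⁻¹ * a.1 * s.1) * s'.1
      group)))
  letI : MulAction S X := { smul := act, one_smul := hact1, mul_smul := hactmul }
  let ρ : S →* Equiv.Perm X := MulAction.toPermHom S X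
  have hker : ρ.ker ≤ ψ.ker := fun s hs => MonoidHom.mem_ker.2 (hψ s fun a ha => by
    have hfix : ∀ χ : X, χ.1 (c s ⟨a, ha⟩) = χ.1 ⟨a, ha⟩ := fun χ => by
      have := congrArg (fun π : Equiv.Perm X => π χ) (MonoidHom.mem_ker.1 hs)
      exact DFunLike.congr_fun (congrArg Subtype.val this) ⟨a, ha⟩
    obtain ⟨z, hz⟩ : ∃ z : A, z = c s ⟨a, ha⟩ * (⟨a, ha⟩ : A)⁻¹ := ⟨_, rfl⟩
    have hz1 : M z.1 = 1 := by
      have h := congrArg (fun Z => M z.1 * Z) hsum
      simp only [Matrix.mul_sum, Matrix.mul_smul, Matrix.mul_one] at h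
      rw [Finset.sum_congr rfl fun χ _ => hMe χ z] at h
      have h2 : ∑ χ : A →* Lˣ, ((χ z : Lˣ) : L) • e χ = ∑ χ : A →* Lˣ, e χ := Finset.sum_congr rfl fun χ _ => by
        by_cases hχ : e χ = 0
        · rw [hχ, smul_zero]
        by_cases hχ1 : χ = 1
        · rw [hχ1, MonoidHom.one_apply, Units.val_one, one_smul]
        rw [hz, map_mul, map_inv, hfix ⟨χ, hχ1, hχ⟩, mul_inv_cancel, Units.val_one, one_smul]
      rw [h2, hsum] at h
      exact (smul_right_injective _ hcard h).symm
    have h1 := hMinj _ hz1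
    rw [hz] at h1
    have h2 : s.1⁻¹ * a * s.1 * a⁻¹ = 1 := h1
    rw [mul_inv_eq_one, mul_assoc, inv_mul_eq_iff_eq_mul] at h2
    exact h2.symm)
  refine dvd_trans ?_ (card_dvd_three hX9 ι (fun χ => Subtype.ext (inv_inv χ.1))
    (fun χ h => χ.2.1 (hodd' _ (congrArg Subtype.val h))) ρ.range
    (hodd.of_dvd_nat (Subgroup.card_range_dvd ρ)) ?_)
  · rw [← Subgroup.index_ker, ← Subgroup.index_ker]
    exact Subgroup.index_dvd_of_le hker
  · rintro _ ⟨s, rfl⟩ χ
    exact Subtype.ext (MonoidHom.ext fun a => rfl)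

end CfsgLib.Classical22.OrthField.Cubic
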