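/-
No element of a tight group moves a singular vector to an anisotropic one.
-/
import Cfsg.Agent.Lib.Classical22.OrthFieldThree.Radical
import Cfsg.Agent.Lib.Classical22.OrthFieldThree.Line
import Cfsg.Agent.Lib.Classical22.OrthFieldThree.Count
import Cfsg.Agent.Lib.Classical22.OrthFieldThree.Weights
import Mathlib.GroupTheory.Transfer

set_option autoImplicit false
set_option linter.all false

namespace CfsgLib.Classical22.OrthField.Cubic

open CfsgLib.Classical

section generic

variable {G : Type*} [Group G] [Finite G] {H : Subgroup G} {A : Type*} [CommGroup A] (φ : H →* A)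

/-- The transfer of an element fixing one coset only, with trivial powers elsewhere. -/
theorem transfer_of_fix {u : G} (hu : u ∈ H) {p : ℕ} (hp : p.Prime) (hup : u ^ p = 1)
    (hfix : ∀ x : G, x⁻¹ * u * x ∈ H → x ∈ H) : MonoidHom.transfer φ u = φ ⟨u, hu⟩ := by
  classical
  haveI : Fintype (Quotient (MulAction.orbitRel (Subgroup.zpowers u) (G ⧸ H))) := Fintype.ofFinite _
  rw [MonoidHom.transfer_eq_prod_quotient_orbitRel_zpowers_quot]
  have hper : ∀ x : G ⧸ H, Function.minimalPeriod (fun y => u • y) x = if x = ((1 : G) : G ⧸ H) then 1 else p := by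
    intro x
    induction x using QuotientGroup.induction_on with
    | H z =>
      have hz : u • (z : G ⧸ H) = z ↔ (z : G ⧸ H) = ((1 : G) : G ⧸ H) := by
        rw [MulAction.Quotient.smul_coe, smul_eq_mul, QuotientGroup.eq, QuotientGroup.eq, mul_one]
        constructor
        · intro h
          refine inv_mem (hfix z ?_)
          have h' := inv_mem h
          simpa only [mul_inv_rev, inv_inv, mul_assoc] using h'
        · intro h
          rw [mul_inv_rev, mul_assoc]
          exact H.mul_mem h (H.mul_mem (inv_mem hu) (inv_mem_iff.1 h))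
      split_ifs with h
      · exact Function.minimalPeriod_eq_one_iff_isFixedPt.2 (hz.2 h)
      · have hdvd : Function.minimalPeriod (fun y => u • y) (z : G ⧸ H) ∣ p := by
          refine Function.IsPeriodicPt.minimalPeriod_dvd ?_
          show (fun y => u • y)^[p] (z : G ⧸ H) = z
          rw [smul_iterate_apply, hup, one_smul]
        exact ((Nat.dvd_prime hp).1 hdvd).resolve_left fun h1 =>
          h (hz.1 (Function.minimalPeriod_eq_one_iff_isFixedPt.1 h1))
  obtain ⟨q₀, hq₀⟩ : ∃ q₀ : Quotient (MulAction.orbitRel (Subgroup.zpowers u) (G ⧸ H)),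
      q₀ = Quotient.mk _ ((1 : G) : G ⧸ H) := ⟨_, rfl⟩
  have hout : q₀.out = ((1 : G) : G ⧸ H) := by
    obtain ⟨⟨w, hw⟩, h⟩ := Quotient.mk_out (s := MulAction.orbitRel (Subgroup.zpowers u) (G ⧸ H)) ((1 : G) : G ⧸ H)
    rw [hq₀, ← h]
    obtain ⟨k, rfl⟩ := Subgroup.mem_zpowers_iff.1 hw
    show (u ^ k) • ((1 : G) : G ⧸ H) = _
    rw [MulAction.Quotient.smul_coe, smul_eq_mul, mul_one, QuotientGroup.eq, mul_one]
    exact inv_mem (H.zpow_mem hu k)
  rw [Finset.prod_eq_single q₀]
  · have h1 : (q₀.out.out)⁻¹ * 1 ∈ H := QuotientGroup.eq.1 (by rw [QuotientGroup.out_eq']; exact hout)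
    have h2 : q₀.out.out ∈ H := by simpa using h1
    rw [show ∀ h, (⟨q₀.out.out⁻¹ * u ^ Function.minimalPeriod (fun y => u • y) q₀.out * q₀.out.out, h⟩ : H) =
      (⟨q₀.out.out, h2⟩ : H)⁻¹ * ⟨u, hu⟩ * ⟨q₀.out.out, h2⟩ from fun h => Subtype.ext (by
        show q₀.out.out⁻¹ * u ^ Function.minimalPeriod (fun y => u • y) q₀.out * q₀.out.out = _
        rw [hper, if_pos hout, pow_one]; rfl), map_mul, map_mul, map_inv, inv_mul_cancel_comm]
  · intro q _ hq
    rw [show ∀ h, (⟨q.out.out⁻¹ * u ^ Function.minimalPeriod (fun y => u • y) q.out * q.out.out, h⟩ : H) =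
      1 from fun h => Subtype.ext (by
        show q.out.out⁻¹ * u ^ Function.minimalPeriod (fun y => u • y) q.out * q.out.out = _
        rw [hper, if_neg (fun h' => hq (by rw [hq₀, ← h', Quotient.out_eq])), hup]; simp), map_one]
  · exact fun h => absurd (Finset.mem_univ _) h

/-- A nontrivial transfer comes from a nontrivial conjugate of a power. -/
theorem exists_of_transfer_ne {s : G} (h : MonoidHom.transfer φ s ≠ 1) :
    ∃ (x : G) (k : ℕ) (hm : x⁻¹ * s ^ k * x ∈ H), φ ⟨_, hm⟩ ≠ 1 := by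
  classical
  haveI : Fintype (Quotient (MulAction.orbitRel (Subgroup.zpowers s) (G ⧸ H))) := Fintype.ofFinite _
  by_contra hc
  push Not at hc
  rw [MonoidHom.transfer_eq_prod_quotient_orbitRel_zpowers_quot] at h
  exact h (Finset.prod_eq_one fun q _ => hc _ _ _)

/-- A subgroup of prime power order fixing one coset only. -/
theorem index_modEq_one (U : Subgroup G) {p : ℕ} [Fact p.Prime] (hU : IsPGroup p U) (hUH : U ≤ H)
    (hfix : ∀ x : G, (∀ u ∈ U, x⁻¹ * u * x ∈ H) → x ∈ H) : H.index ≡ 1 [MOD p] := by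
  classical
  have h := hU.card_modEq_card_fixedPoints (G ⧸ H)
  have h1 : MulAction.fixedPoints U (G ⧸ H) = {((1 : G) : G ⧸ H)} := by
    ext x
    induction x using QuotientGroup.induction_on with
    | H z =>
      simp only [MulAction.mem_fixedPoints, Set.mem_singleton_iff]
      constructor
      · intro hz
        rw [QuotientGroup.eq, mul_one]
        refine inv_mem (hfix z fun u hu => ?_)
        have h2 : (u • (z : G ⧸ H)) = z := hz ⟨u, hu⟩
        rw [MulAction.Quotient.smul_coe, smul_eq_mul, QuotientGroup.eq] at h2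
        simpa only [mul_inv_rev, inv_inv, mul_assoc] using inv_mem h2
      · rintro hz ⟨u, hu⟩
        rw [hz]
        show u • ((1 : G) : G ⧸ H) = _
        rw [MulAction.Quotient.smul_coe, smul_eq_mul, mul_one, QuotientGroup.eq, mul_one]
        exact inv_mem (hUH hu)
  rw [h1, Nat.card_coe_set_eq, Set.ncard_singleton] at h
  exact h

end generic

universe u

variable {F : Type u} [Field F] [Fintype F] {K : Type*} [Field K] [Algebra F K] [Fintype K]
variable {V : Type u} [AddCommGroup V] [Module F V] [Module K V] [IsScalarTower F K V]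
variable [FiniteDimensional F K] [FiniteDimensional F V] [FiniteDimensional K V]
variable {Q : QuadraticForm F V} {R : QuadraticForm K V} {M : Subgroup (qAut Q)}
variable (E : Over Q R) {v f e : V} {t : F} (S : Std R v f e t)
variable (hn : 5 ≤ Module.finrank F V) (hM : SemiMem K M) (hT : Tight R M v)
variable (hME : M ≤ eichGroup Q) (hr : Module.finrank F K = 3) (hd : Module.finrank K V = 3)
include E S hn hM hT hME hr hd

omit hd in
/-- The stabilisers of the vector and of its line differ by an element of large order. -/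
theorem false_of_card (hdim : Module.finrank F V ≤ 9) (hq : 3 < Fintype.card F) {r : ℕ} (hrp : r.Prime) (hr2 : r ≠ 2)
    (hr3 : r ≠ 3) (hrF : (r : F) ≠ 0) (hdvd : r ∣ Nat.card ↥(M ⊓ vStab Q v)) : False := by
  classical
  haveI : Finite V := Module.finite_of_finite F
  haveI : Finite (V ≃ₗ[F] V) := Finite.of_injective _ DFunLike.coe_injective
  haveI : Fact r.Prime := ⟨hrp⟩
  obtain ⟨p, hp⟩ := CharP.exists F
  haveI hpf : Fact p.Prime := ⟨CharP.char_is_prime F p⟩
  haveI : CharP K p := charP_of_injective_algebraMap (algebraMap F K).injective p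
  obtain ⟨nF, -, hF⟩ := FiniteField.card F p
  have hUM := uu_mem' E hn S hM
  let G : Subgroup (qAut Q) := M ⊓ vStab Q v
  let N : Subgroup G := (qStab Q (lineF F (K := K) v)).subgroupOf G
  have hGM : ∀ x : G, x.1 ∈ M := fun x => x.2.1
  have hGv : ∀ x : G, x.1.1 v = v := fun x => x.2.2
  have hact := fun (x : G) (hx : x ∈ N) => act_of_mem E S hn hM hT hME hr (hGM x) (hGv x) hx
  let φ : N →* Multiplicative F :=
    { toFun := fun x => Multiplicative.ofAdd (Algebra.trace F K (etaK R f e t x.1.1))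
      map_one' := by
        have h : etaK R f e t (1 : qAut Q) = 0 := by rw [← uu_zero E S, etaK_uu E S]
        show Multiplicative.ofAdd (Algebra.trace F K (etaK R f e t (1 : qAut Q))) = 1
        rw [h, map_zero]
        rfl
      map_mul' := fun x y => by
        obtain ⟨s, hs⟩ := hact x.1 x.2
        obtain ⟨s', hs'⟩ := hact y.1 y.2
        show Multiplicative.ofAdd (Algebra.trace F K (etaK R f e t (x.1.1 * y.1.1))) = _
        rw [etaK_mul E S hs hs', map_add, Algebra.trace_eq_of_algEquiv, ofAdd_add] }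
  let uG : K → G := fun c => ⟨uu E v e c, hUM c, by
    show (uu E v e c).1 v = v
    simpa using uu_fix_v E S c 1⟩
  have huN : ∀ c, uG c ∈ N := fun c => act_qStab E S (act_uu E S c)
  have hpow : ∀ (c : K) (n : ℕ), uu E v e c ^ n = uu E v e (n * c) := fun c n => by
    induction n with
    | zero => rw [pow_zero, Nat.cast_zero, zero_mul, uu_zero E S]
    | succ n ih => rw [pow_succ, ih, uu_mul E S]; push_cast; rw [add_mul, one_mul]
  have hfix : ∀ c : K, c ≠ 0 → ∀ x : G, x⁻¹ * uG c * x ∈ N → x ∈ N := fun c hc x hx =>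
    semireg E S hn hM hT hME hr hq (hGM x) (hGv x) hc hx
  let W : G →* Multiplicative F := MonoidHom.transfer φ
  have hWu : ∀ c, W (uG c) = Multiplicative.ofAdd (Algebra.trace F K c) := fun c => by
    by_cases hc : c = 0
    · have h1 : uG c = 1 := Subtype.ext (by show uu E v e c = 1; rw [hc, uu_zero E S])
      rw [h1, map_one, hc, map_zero]
      rfl
    rw [transfer_of_fix φ (huN c) hpf.out (Subtype.ext (by
      show (uu E v e c) ^ p = 1
      rw [hpow, CharP.cast_eq_zero, zero_mul, uu_zero E S])) (hfix c hc)]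
    show Multiplicative.ofAdd (Algebra.trace F K (etaK R f e t (uu E v e c))) = _
    rw [etaK_uu E S]
  have hWsurj : Function.Surjective W := fun a => by
    obtain ⟨c, hc⟩ := Algebra.trace_surjective F K (Multiplicative.toAdd a)
    exact ⟨uG c, by rw [hWu, hc]; rfl⟩
  -- elements of order r fix no line of the orbit
  have hsmall : ∀ z : G, z ^ r = 1 → z ∈ N → z = 1 := fun z hz hzN => by
    obtain ⟨s, hs⟩ := hact z hzN
    have hz' : z.1 ^ r = 1 := by rw [← SubmonoidClass.coe_pow, hz]; rfl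
    have h1 := act_pow hs (map_one s) (map_one s) r
    rw [hz', one_pow] at h1
    have h2 := (act_unique E S h1 act_one one_ne_zero).2
    have hs1 : s = 1 := by
      have hg : s ^ Nat.gcd r 3 = 1 := pow_gcd_eq_one.2 ⟨h2, aut_pow_three hr s⟩
      rwa [show Nat.gcd r 3 = 1 from (Nat.coprime_primes hrp Nat.prime_three).2 hr3, pow_one] at hg
    subst hs1
    obtain ⟨c, hc⟩ := eq_uu_of_rad E S hUM hT (hGM z) (rad_of_act E S hs)
    rw [hc, hpow, ← uu_zero E S] at hz'
    have h3 := uu_injective E S hz'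
    have hrK : (r : K) ≠ 0 := by rw [← map_natCast (algebraMap F K)]; exact (map_ne_zero _).2 hrF
    refine Subtype.ext ?_
    rw [hc, (mul_eq_zero.1 h3).resolve_left hrK, uu_zero E S]
    rfl
  -- a Sylow subgroup of the kernel
  have hrker : r ∣ Nat.card W.ker := by
    have h := W.ker.card_mul_index
    rw [Subgroup.index_ker, MonoidHom.range_eq_top.2 hWsurj, Subgroup.card_top,
      Nat.card_congr (Multiplicative.toAdd (α := F)), Nat.card_eq_fintype_card (α := F), hF] at h
    have hcop : Nat.Coprime r (p ^ (nF : ℕ)) :=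
      Nat.Coprime.pow_right _ ((Nat.coprime_primes hrp hpf.out).2 fun h => hrF (by rw [h, CharP.cast_eq_zero]))
    exact hcop.dvd_of_dvd_mul_right (h ▸ hdvd)
  obtain ⟨P⟩ : Nonempty (Sylow r W.ker) := inferInstance
  obtain ⟨P', hP'⟩ : ∃ P', P' = (P : Subgroup W.ker).map W.ker.subtype := ⟨_, rfl⟩
  have hP'p : IsPGroup r P' := hP' ▸ P.2.map _
  haveI : Nontrivial P' := (Subgroup.nontrivial_iff_ne_bot _).2 fun h => P.ne_bot_of_dvd_card hrker
    ((Subgroup.map_eq_bot_iff_of_injective _ W.ker.subtype_injective).1 (hP' ▸ h))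
  let A : Subgroup G :=
    { carrier := {z | z ∈ P' ∧ (∀ y ∈ P', z * y = y * z) ∧ z ^ r = 1}
      mul_mem' := fun {a b} ha hb => ⟨P'.mul_mem ha.1 hb.1,
        fun y hy => by rw [mul_assoc, hb.2.1 y hy, ← mul_assoc, ha.2.1 y hy, mul_assoc],
        by rw [Commute.mul_pow (ha.2.1 b hb.1), ha.2.2, hb.2.2, one_mul]⟩
      one_mem' := ⟨P'.one_mem, fun y _ => by rw [one_mul, mul_one], one_pow _⟩
      inv_mem' := fun {a} ha => ⟨P'.inv_mem ha.1,
        fun y hy => (Commute.inv_left (ha.2.1 y hy)).eq, by rw [inv_pow, ha.2.2, inv_one]⟩ }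
  obtain ⟨z₀, hz₀A, hz₀⟩ : ∃ z ∈ A, z ≠ 1 := by
    haveI := hP'p.center_nontrivial
    obtain ⟨k, hk⟩ := (IsPGroup.iff_card (p := r)).1 (hP'p.to_subgroup (Subgroup.center P'))
    have hk0 : k ≠ 0 := fun h => by
      rw [h, pow_zero] at hk
      exact not_nontrivial_iff_subsingleton.2 (Finite.card_le_one_iff_subsingleton.1 hk.le) inferInstance
    obtain ⟨z, hz⟩ := exists_prime_orderOf_dvd_card' (G := Subgroup.center P') r (hk ▸ dvd_pow_self r hk0)
    refine ⟨z.1.1, ⟨z.1.2, fun y hy => ?_, ?_⟩, fun h => ?_⟩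
    · exact congrArg Subtype.val (Subgroup.mem_center_iff.1 z.2 ⟨y, hy⟩).symm
    · have h1 : z ^ r = 1 := hz ▸ pow_orderOf_eq_one z
      exact congrArg (fun w : Subgroup.center P' => (w.1.1 : G)) h1
    · rw [show z = 1 from Subtype.ext (Subtype.ext h), orderOf_one] at hz
      exact hrp.one_lt.ne hz
  obtain ⟨Nm, hNm⟩ : ∃ Nm, Nm = Subgroup.normalizer (P' : Set G) := ⟨_, rfl⟩
  have hnorm : ∀ g ∈ Nm, ∀ z ∈ A, g * z * g⁻¹ ∈ A := fun g hg z hz => by
    have hm := Subgroup.mem_normalizer_iff.1 (hNm ▸ hg)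
    refine ⟨(hm z).1 hz.1, fun y hy => ?_, by rw [conj_pow, hz.2.2, mul_one, mul_inv_cancel]⟩
    have hy' : g⁻¹ * y * g ∈ P' := (Subgroup.mem_normalizer_iff''.1 (hNm ▸ hg) y).1 hy
    have h1 := hz.2.1 _ hy'
    calc g * z * g⁻¹ * y = g * (z * (g⁻¹ * y * g)) * g⁻¹ := by group
      _ = g * ((g⁻¹ * y * g) * z) * g⁻¹ := by rw [h1]
      _ = y * (g * z * g⁻¹) := by group
  -- the Sylow subgroup of the normaliser maps onto the field
  have hNmW : ∀ a, ∃ g ∈ Nm, W g = a := fun a => by
    obtain ⟨g, rfl⟩ := hWsurj a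
    have h : g ∈ Nm ⊔ W.ker := by rw [hNm, hP', Sylow.normalizer_sup_eq_top P]; trivial
    obtain ⟨x, hx, y, hy, rfl⟩ := Subgroup.mem_sup_of_normal_right.1 h
    exact ⟨x, hx, by rw [map_mul, (MonoidHom.mem_ker.1 hy), mul_one]⟩
  obtain ⟨T⟩ : Nonempty (Sylow p Nm) := inferInstance
  let WN : Nm →* Multiplicative F := W.comp Nm.subtype
  have hWN : Function.Surjective WN := fun a => by obtain ⟨g, hg, rfl⟩ := hNmW a; exact ⟨⟨g, hg⟩, rfl⟩
  have hTtop : (T : Subgroup Nm).map WN = ⊤ := by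
    rw [← Subgroup.index_eq_one]
    have h1 := Subgroup.index_map_dvd (T : Subgroup Nm) hWN
    have h2 : ((T : Subgroup Nm).map WN).index ∣ p ^ (nF : ℕ) := by
      rw [← hF, ← Nat.card_eq_fintype_card, ← Nat.card_congr (Multiplicative.toAdd (α := F))]
      exact Subgroup.index_dvd_card _
    obtain ⟨i, -, hi⟩ := (Nat.dvd_prime_pow hpf.out).1 h2
    rw [hi] at h1 ⊢
    rcases Nat.eq_zero_or_pos i with rfl | h0
    · rfl
    · exact absurd ((dvd_pow_self p (by omega)).trans h1) (Sylow.not_dvd_index T)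
  obtain ⟨T', hT'⟩ : ∃ T', T' = ((T : Subgroup Nm).map Nm.subtype).map G.subtype := ⟨_, rfl⟩
  have hT'G : T' ≤ G := by
    rw [hT']; rintro _ ⟨x, -, rfl⟩; exact x.2
  let ψ : T' →* Multiplicative F := W.comp (Subgroup.inclusion hT'G)
  have hψsurj : Function.Surjective ψ := fun a => by
    obtain ⟨g, hg, rfl⟩ : a ∈ (T : Subgroup Nm).map WN := hTtop ▸ Subgroup.mem_top a
    exact ⟨⟨g.1.1, hT' ▸ ⟨g.1, ⟨g, hg, rfl⟩, rfl⟩⟩, rfl⟩
  have hodd : Odd (Nat.card T') := by
    obtain ⟨k, hk⟩ := (IsPGroup.iff_card (p := p)).1 (show IsPGroup p T' from hT' ▸ (T.2.map _).map _)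
    rw [hk]
    exact (hpf.out.odd_of_ne_two fun h => E.two (by subst h; exact CharTwo.two_eq_zero)).pow
  have h3 := range_dvd_three E.polarNondeg hdim hrp hr2 hrF (A.map G.subtype)
    (by
      rintro _ ⟨a, ha, rfl⟩ _ ⟨b, hb, rfl⟩
      exact congrArg Subtype.val (ha.2.1 b hb.1))
    (by rintro _ ⟨a, ha, rfl⟩; exact congrArg Subtype.val ha.2.2) T'
    (by
      intro x hx
      rw [hT'] at hx
      obtain ⟨g, ⟨g', hg', rfl⟩, rfl⟩ := hx
      rw [Subgroup.mem_normalizer_iff]
      intro y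
      constructor
      · rintro ⟨a, ha, rfl⟩
        exact ⟨_, hnorm _ g'.2 a ha, by simp⟩
      · rintro ⟨a, ha, hy⟩
        refine ⟨_, hnorm _ (inv_mem g'.2) a ha, ?_⟩
        simp only [Subgroup.coe_subtype, Subgroup.coe_mul, Subgroup.coe_inv] at hy ⊢
        rw [hy]; group)
    hodd ψ (fun s hs => by
      by_contra hne
      obtain ⟨g, hg⟩ : ∃ g : G, g = Subgroup.inclusion hT'G s := ⟨_, rfl⟩
      have hgne : MonoidHom.transfer φ g ≠ 1 := hg ▸ hne
      have hgz : Commute g z₀ := Subtype.ext (by rw [hg]; exact hs z₀.1 ⟨z₀, hz₀A, rfl⟩)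
      obtain ⟨x, k, hm, hφ⟩ := exists_of_transfer_ne φ hgne
      obtain ⟨y, hy⟩ : ∃ y, y = x⁻¹ * z₀ * x := ⟨_, rfl⟩
      have hym : Commute (x⁻¹ * g ^ k * x) y := by
        have := (hgz.pow_left k).conj x⁻¹
        rw [inv_inv] at this
        rw [hy]; exact this
      obtain ⟨c, hc, hcase⟩ := exists_root_of_trace_ne E S hn hM hT hME hr (hGM (x⁻¹ * g ^ k * x)) (hGv (x⁻¹ * g ^ k * x)) hm (fun h => hφ (by
        show Multiplicative.ofAdd (Algebra.trace F K (etaK R f e t (x⁻¹ * g ^ k * x : G).1)) = 1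
        rw [h]; rfl))
      have huy : Commute (uG c) y := by
        rcases hcase with h | h
        · rwa [show x⁻¹ * g ^ k * x = uG c from Subtype.ext h] at hym
        · have h' : (x⁻¹ * g ^ k * x) ^ 3 = uG c := Subtype.ext h
          exact h' ▸ hym.pow_left 3
      have hyN : y ∈ N := hfix c hc y (by
        rw [mul_assoc, huy.eq, inv_mul_cancel_left]; exact huN c)
      have hyr : y ^ r = 1 := by
        have hc' : (x⁻¹ * z₀ * x⁻¹⁻¹) ^ r = x⁻¹ * z₀ ^ r * x⁻¹⁻¹ := conj_pow
        rw [inv_inv] at hc'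
        rw [hy, hc', hz₀A.2.2, mul_one, inv_mul_cancel]
      have h1 := hsmall y hyr hyN
      rw [hy, mul_assoc, inv_mul_eq_one, right_eq_mul] at h1
      exact hz₀ h1)
  rw [MonoidHom.range_eq_top.2 hψsurj, Subgroup.card_top, Nat.card_congr (Multiplicative.toAdd (α := F)),
    Nat.card_eq_fintype_card] at h3
  have := Nat.le_of_dvd (by norm_num) h3
  omega

/-- The case of three scalars. -/
theorem false_of_three (hq : Fintype.card F = 3) {g : qAut Q} (hg : g ∈ M) (hw : R (g.1 v) ≠ 0) : False := by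
  classical
  haveI : Finite V := Module.finite_of_finite F
  haveI : Finite (V ≃ₗ[F] V) := Finite.of_injective _ DFunLike.coe_injective
  haveI : Fact (Nat.Prime 3) := ⟨Nat.prime_three⟩
  haveI : CharP F 3 := charP_of_card_eq_prime hq
  haveI : CharP K 3 := charP_of_injective_algebraMap (algebraMap F K).injective 3
  -- an element of the group negating the vector
  obtain ⟨w', hw', hRw'⟩ := exists_twin E hd hw
  have hw'0 : R w' ≠ 0 := hRw' ▸ hw
  obtain ⟨h, hh⟩ : ∃ h, h = E.lift (qRefl R hw'0 * qRefl R hw) := ⟨_, rfl⟩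
  have hhM : h ∈ M := hM _ (hh ▸ lift_pair_mem E hn hw hw'0 hRw'.symm) (hh ▸ isSemi_lift E _)
  obtain ⟨x₀, hx₀⟩ : ∃ x₀, x₀ = g⁻¹ * h * g := ⟨_, rfl⟩
  have hx₀v : x₀.1 v = -v := by
    rw [hx₀, qAut_mul_apply, qAut_mul_apply, hh, Over.lift_apply, qAut_mul_apply, qRefl_self, map_neg,
      qRefl_fix R hw'0 hw', map_neg, qInv_apply_self]
  have hx₀M : x₀ ∈ M := hx₀ ▸ M.mul_mem (M.mul_mem (M.inv_mem hg) hhM) hg
  let P : Subgroup (qAut Q) :=
    { carrier := {a | a ∈ M ∧ (a.1 v = v ∨ a.1 v = -v)}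
      mul_mem' := fun {a b} ha hb => ⟨M.mul_mem ha.1 hb.1, by
        rw [qAut_mul_apply]
        rcases hb.2 with h | h <;> rw [h] <;> rcases ha.2 with h' | h' <;> simp [h']⟩
      one_mem' := ⟨M.one_mem, Or.inl rfl⟩
      inv_mem' := fun {a} ha => ⟨M.inv_mem ha.1, by
        rcases ha.2 with h | h
        · left; conv_lhs => rw [← h, qInv_apply_self]
        · right
          apply a.1.injective
          rw [qApply_inv_self, map_neg, h, neg_neg]⟩ }
  let H₁ : Subgroup P := (vStab Q v).subgroupOf P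
  let H₂ : Subgroup P := (qStab Q (lineF F (K := K) v)).subgroupOf P
  let U : Subgroup P :=
    { carrier := {a | ∃ c : K, a.1 = uu E v e c}
      mul_mem' := by
        rintro a b ⟨c, hc⟩ ⟨d, hd'⟩
        exact ⟨c + d, by rw [Subgroup.coe_mul, hc, hd', uu_mul E S]⟩
      one_mem' := ⟨0, (uu_zero E S).symm⟩
      inv_mem' := by
        rintro a ⟨c, hc⟩
        exact ⟨-c, by rw [Subgroup.coe_inv, hc, uu_inv E S]⟩ }
  have hUv : ∀ c : K, (uu E v e c).1 v = v := fun c => by simpa using uu_fix_v E S c 1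
  have hU : IsPGroup 3 U := by
    rintro ⟨a, c, hc⟩
    refine ⟨1, Subtype.ext (Subtype.ext ?_)⟩
    show a.1 ^ 3 ^ 1 = 1
    rw [pow_one, hc, pow_succ, sq, uu_mul E S, uu_mul E S,
      show c + c + c = ((3 : ℕ) : K) * c by push_cast; ring, CharP.cast_eq_zero, zero_mul, uu_zero E S]
  have hfix : ∀ x : P, (∀ u ∈ U, x⁻¹ * u * x ∈ H₂) → x ∈ H₂ := fun x hx => by
    obtain ⟨Y, hY⟩ : ∃ Y, Y = (lineF F (K := K) v).map x.1.1.toLinearMap := ⟨_, rfl⟩
    have hYl : Y = lineF F (K := K) v := by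
      refine eq_line_of_inv E S hr ?_ fun c z hz => ?_
      · rw [hY, LinearEquiv.finrank_map_eq]
        have h1 := Module.finrank_mul_finrank F K (Submodule.span K {v})
        rw [hr, finrank_span_singleton S.v0, mul_one] at h1
        exact h1.symm
      · rw [hY] at hz ⊢
        obtain ⟨w, hw, rfl⟩ := Submodule.mem_map.1 hz
        refine Submodule.mem_map.2 ⟨_, apply_mem_of_qStab Q (hx ⟨uu E v e c, uu_mem' E hn S hM c,
          Or.inl (hUv c)⟩ ⟨c, rfl⟩) hw, ?_⟩
        show x.1.1 ((x.1⁻¹ * uu E v e c * x.1).1 w) = (uu E v e c).1 (x.1.1 w)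
        rw [qAut_mul_apply, qAut_mul_apply, qApply_inv_self]
    exact mem_qStab_of_maps Q fun w hw => hYl ▸ hY ▸ Submodule.mem_map_of_mem hw
  have hindex₂ : H₂.index ≡ 1 [MOD 3] := index_modEq_one U hU (by
    rintro a ⟨c, hc⟩
    show a.1 ∈ qStab Q _
    rw [hc]
    exact act_qStab E S (act_uu E S c)) hfix
  have hneg : v ≠ -v := fun h => S.v0 (by
    have : (2 : F) • v = 0 := by rw [two_smul]; nth_rewrite 2 [h]; exact add_neg_cancel v
    exact (smul_eq_zero.1 this).resolve_left E.two)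
  have hindex₁ : H₁.index = 2 := Subgroup.index_eq_two_iff.2 ⟨⟨x₀, hx₀M, Or.inr hx₀v⟩, fun b => by
    show Xor ((b.1 * x₀).1 v = v) (b.1.1 v = v)
    rw [qAut_mul_apply, hx₀v, map_neg]
    rcases b.2.2 with h | h
    · exact Or.inr ⟨h, by rw [h]; exact hneg.symm⟩
    · exact Or.inl ⟨by rw [h, neg_neg], by rw [h]; exact hneg.symm⟩⟩
  have hsome : ∃ n : P, n ∈ H₂ ∧ n ∉ H₁ := by
    by_contra hc
    push Not at hc
    have hle : H₂ ≤ H₁ := fun n hn => hc n hn
    let U₁ : Subgroup H₁ := U.subgroupOf H₁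
    have hU₁ : IsPGroup 3 U₁ := hU.comap_of_injective H₁.subtype H₁.subtype_injective
    have hrel : (H₂.subgroupOf H₁).index ≡ 1 [MOD 3] := index_modEq_one U₁ hU₁ (fun a ha => by
      obtain ⟨c, hc⟩ := (ha : (a : P) ∈ U)
      show a.1.1 ∈ qStab Q _
      rw [show a.1.1 = uu E v e c from hc]
      exact act_qStab E S (act_uu E S c)) (fun x hx => hfix x.1 fun u hu => by
        have huH : u ∈ H₁ := by
          obtain ⟨c, hc⟩ := hu
          show u.1.1 v = v
          rw [hc, hUv]
        exact hx ⟨u, huH⟩ hu)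
    have h : H₂.relIndex H₁ * H₁.index = H₂.index := Subgroup.relIndex_mul_index hle
    rw [hindex₁] at h
    unfold Subgroup.relIndex at h
    unfold Nat.ModEq at hindex₂ hrel
    omega
  obtain ⟨n, hn₂, hn₁⟩ := hsome
  have hnv : n.1.1 v = -v := n.2.2.resolve_left hn₁
  obtain ⟨l, hl0, s, b, hA, hb⟩ := exists_act E S hn hM hT n.2.1 hn₂
  have hl : l = -1 := smul_left_injective K S.v0 (by
    have h := hA.line 1
    rw [one_smul, hnv, map_one, mul_one] at h
    show l • v = (-1 : K) • v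
    rw [neg_one_smul, h])
  subst hl
  have hs1 : s (-1 : K) = -1 := by rw [map_neg, map_one]
  have hsb : s b = b := by
    rcases mul_self_eq_one_iff.1 hb with rfl | rfl
    · exact map_one s
    · exact hs1
  have h3 := act_pow hA hs1 hsb 3
  rw [aut_pow_three hr, show (-1 : K) ^ 3 = -1 by ring, show b ^ 3 = b by rw [pow_succ, sq, hb, one_mul]] at h3
  obtain ⟨-, h4⟩ := signs E S hn hM hT hME hr (M.pow_mem n.2.1 3) h3 (by ring) hb
  have heta : OrthType.eta F = -1 := (OrthType.eta_pm (F := F)).resolve_left fun h =>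
    (OrthType.eta_eq_one_iff.1 h) (by rw [hq])
  have h5 := h4 heta
  exact E.two' (by linear_combination -h5)

/-- No element of a tight group moves a singular vector to an anisotropic one. -/
theorem false_of_move {g : qAut Q} (hg : g ∈ M) (hw : R (g.1 v) ≠ 0) : False := by
  classical
  haveI : Finite V := Module.finite_of_finite F
  haveI : Finite (V ≃ₗ[F] V) := Finite.of_injective _ DFunLike.coe_injective
  haveI : Finite (V ≃ₗ[K] V) := Finite.of_injective _ DFunLike.coe_injective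
  obtain ⟨p, hp⟩ := CharP.exists F
  haveI hpf : Fact p.Prime := ⟨CharP.char_is_prime F p⟩
  obtain ⟨nF, -, hF⟩ := FiniteField.card F p
  have h2 : ringChar F ≠ 2 := fun h => E.two (by
    haveI := ringChar.of_eq h
    exact CharTwo.two_eq_zero)
  have hodd : Odd (Fintype.card F) := Nat.odd_iff.2 (FiniteField.odd_card_of_char_ne_two h2)
  by_cases hq : Fintype.card F = 3
  · exact false_of_three E S hn hM hT hME hr hd hq hg hw
  have hq3 : 3 < Fintype.card F := by
    have := Fintype.one_lt_card (α := F)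
    obtain ⟨j, hj⟩ := hodd
    omega
  obtain ⟨N, hN, hNdvd⟩ := exists_order_dvd E hd hw
  rw [Module.card_eq_pow_finrank (K := F) (V := K), hr] at hN
  obtain ⟨r, hrp, hr2, hr3, hrp', hrN⟩ := exists_prime hpf.out ⟨_, hF⟩ hq3 hodd hN
  haveI : Fact r.Prime := ⟨hrp⟩
  have hrF : (r : F) ≠ 0 := fun h => hrp' ((Nat.prime_dvd_prime_iff_eq hpf.out hrp).1
    ((CharP.cast_eq_zero_iff F p r).1 h)).symm
  obtain ⟨⟨a, ha⟩, haord⟩ := exists_prime_orderOf_dvd_card' (G := MulAction.stabilizer (qAut R) (g.1 v)) r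
    (hrN.trans hNdvd)
  obtain ⟨x, hx⟩ : ∃ x, x = g⁻¹ * E.lift a * g := ⟨_, rfl⟩
  have hao : orderOf a = r := (Subgroup.orderOf_coe ⟨a, ha⟩).trans haord
  obtain ⟨i, hi⟩ := hrp.odd_of_ne_two hr2
  have haM : E.lift a ∈ M := by
    have e : a = a ^ (i + 1) * a ^ (i + 1) := by
      rw [← pow_add, show i + 1 + (i + 1) = r + 1 by omega, pow_succ, ← hao, pow_orderOf_eq_one, one_mul]
    rw [e]
    exact hM _ (lift_sq_mem E hn _) (isSemi_lift E _)
  have hxG : x ∈ M ⊓ vStab Q v := ⟨hx ▸ M.mul_mem (M.mul_mem (M.inv_mem hg) haM) hg, by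
    show x.1 v = v
    have ha' : a.1 (g.1 v) = g.1 v := ha
    rw [hx, qAut_mul_apply, qAut_mul_apply, Over.lift_apply, ha', qInv_apply_self]⟩
  have hxo : orderOf x = r := by
    refine orderOf_eq_prime ?_ fun h1 => ?_
    · have hc : (g⁻¹ * E.lift a * g⁻¹⁻¹) ^ r = g⁻¹ * E.lift a ^ r * g⁻¹⁻¹ := conj_pow
      rw [inv_inv] at hc
      rw [hx, hc, ← map_pow, ← hao, pow_orderOf_eq_one, map_one, mul_one, inv_mul_cancel]
    · rw [hx, mul_assoc, inv_mul_eq_one, right_eq_mul] at h1
      have ha1 : a = 1 := qAut_ext fun z => by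
        have := congrArg (fun y : qAut Q => y.1 z) h1
        simpa using this
      rw [ha1, orderOf_one] at hao
      exact hrp.one_lt.ne hao
  have hdim : Module.finrank F V ≤ 9 := by
    rw [← Module.finrank_mul_finrank F K V, hr, hd]
  refine false_of_card E S hn hM hT hME hr hdim hq3 hrp hr2 hr3 hrF ?_
  rw [← hxo, ← Subgroup.orderOf_mk x hxG]
  exact orderOf_dvd_natCard _

end CfsgLib.Classical22.OrthField.Cubic
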