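/-
The normaliser of a self-adjoint cubic field in a nine-dimensional orthogonal group is maximal in Omega.
-/
import Cfsg.Agent.Lib.Classical22.OrthFieldThree.Transfer
import Cfsg.Agent.Lib.Classical22.OrthField.Main

set_option autoImplicit false
set_option linter.all false

namespace CfsgLib.Classical22.OrthField.Cubic

open CfsgLib.Classical
open scoped MatrixGroups Matrix

variable {F : Type*} [Field F] [Fintype F]

/-- The core statement. -/
theorem core {K : Type*} [Field K] [Algebra F K] [FiniteDimensional F K] {ι : Type} [Fintype ι] [DecidableEq ι]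
    [Module K (ι → F)] [IsScalarTower F K (ι → F)]
    (q : QuadraticForm F (ι → F)) (hQ : PolarNondeg q) (h2 : (2 : F) ≠ 0)
    (hr : Module.finrank F K = 3) (hd : Fintype.card ι = 9)
    (hsa : ∀ (k : K) x y, QuadraticMap.polar q (k • x) y = QuadraticMap.polar q x (k • y)) {S : Subgroup (GL ι F)}
    (hlin : ∀ g : GL ι F, FieldMax.Semi K g → g ∈ S) (hsemi : ∀ g ∈ S, FieldMax.Semi K g) :
    Cfsg.Geo.IsMaximalIn (Cfsg.Geo.omegaGL ⇑q) (S ⊓ Cfsg.Geo.omegaGL ⇑q) := by
  classical
  haveI : Finite K := Module.finite_of_finite F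
  haveI : Fintype K := Fintype.ofFinite K
  haveI : FiniteDimensional K (ι → F) := Module.Finite.of_restrictScalars_finite F K (ι → F)
  have hmul : Module.finrank F K * Module.finrank K (ι → F) = Fintype.card ι := by
    rw [Module.finrank_mul_finrank, Module.finrank_fintype_fun_eq_card]
  have hd3 : Module.finrank K (ι → F) = 3 := by rw [hr, hd] at hmul; omega
  have hn5 : 5 ≤ Fintype.card ι := by omega
  have hnV : 5 ≤ Module.finrank F (ι → F) := by rw [Module.finrank_fintype_fun_eq_card]; omega
  obtain ⟨R, E⟩ := exists_over hQ h2 hsa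
  refine isMaximalIn_omegaGL q hQ hn5 rfl (fun hle => ?_) fun M hHM hMe hMS => ?_
  · obtain ⟨v, hv0, hv⟩ := exists_singular R E.nd (by omega)
    obtain ⟨w, hwv⟩ := E.exists_polar_eq hv0 1
    obtain ⟨δ, hδ⟩ : ∃ δ : K, δ ∉ Submodule.span F {(1 : K)} := by
      by_contra hc
      push Not at hc
      have h1 := Submodule.finrank_mono (show (⊤ : Submodule F K) ≤ Submodule.span F {(1 : K)} from fun x _ => hc x)
      rw [finrank_top, finrank_span_singleton one_ne_zero] at h1
      omega
    have hQv := E.quad_zero hv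
    have hp : QuadraticMap.polar q v (δ • v) = 0 := E.polar_zero (by
      rw [QuadraticMap.polar_smul_right, Over.polar_self_zero hv, smul_zero])
    obtain ⟨g, hg⟩ : ∃ g, g = eich q v (δ • v) := ⟨_, rfl⟩
    have hgS : FieldMax.Semi K (qHom q g) := hsemi _ (hle (hg ▸ eich_mem q hQv hp))
    obtain ⟨X, hX⟩ : ∃ X : K → K, ∀ b, X b = Algebra.trace F K b • δ - Algebra.trace F K (b * δ) • (1 : K) :=
      ⟨_, fun _ => rfl⟩
    have hge : ∀ x, g.1 x = x + X (QuadraticMap.polar R x v) • v := fun x => by
      rw [hg, eich_apply q hQv hp, E.sing hv δ, zero_mul, add_zero, E.polar, E.polar, QuadraticMap.polar_smul_right,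
        smul_eq_mul, hX, sub_smul, smul_assoc, smul_assoc, one_smul, mul_comm δ]
      abel
    have hgv : ∀ k : K, g.1 (k • v) = k • v := fun k => by
      rw [hge, QuadraticMap.polar_smul_left, Over.polar_self_zero hv, smul_zero, hX, zero_mul, map_zero, zero_smul,
        zero_smul, sub_zero, zero_smul, add_zero]
    have hXlin : ∀ k : K, X k = k * X 1 := fun k => by
      obtain ⟨k', hk'⟩ := hgS k
      have h1 := hk' v
      simp only [qHom_mulVec] at h1
      rw [hgv] at h1
      have hv1 : g.1 v = v := by simpa using hgv 1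
      rw [hv1] at h1
      have hkk : k = k' := smul_left_injective K hv0 h1
      subst hkk
      have h3 := hk' w
      simp only [qHom_mulVec, hge] at h3
      rw [QuadraticMap.polar_smul_left, hwv, smul_eq_mul, mul_one, smul_add, smul_smul, add_right_inj] at h3
      exact smul_left_injective K hv0 h3
    have hskew : ∀ k : K, Algebra.trace F K (X k) * 1 + Algebra.trace F K (k * X 1) = 0 := fun k => by
      simp only [hX, one_mul, map_sub, map_smul, smul_eq_mul, mul_sub, mul_smul_comm, mul_one]
      ring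
    have hX1 : X 1 = 0 := E.trace_ext fun k => by
      have := hskew k
      rw [hXlin k, mul_one, ← two_mul] at this
      exact (mul_eq_zero.1 this).resolve_left h2
    obtain ⟨b, hb⟩ := Algebra.trace_surjective F K 1
    have h5 := hX b
    rw [hXlin b, hX1, mul_zero, hb, one_smul, eq_comm, sub_eq_zero] at h5
    exact hδ (Submodule.mem_span_singleton.2 ⟨_, h5.symm⟩)
  · have hM : SemiMem K M := fun g hg hsg => hHM
      ⟨hlin _ fun k => (hsg k).imp fun k' hk' x => by simpa only [qHom_mulVec] using hk' x, hg⟩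
    obtain ⟨g, hg, hgS⟩ := SetLike.not_le_iff_exists.1 hMS
    obtain ⟨v, hv0, hv⟩ := exists_singular R E.nd (by omega)
    by_cases hall : ∀ x, R x = 0 → R (g.1 x) = 0
    · obtain ⟨f, e, t, S'⟩ := exists_std E hd3 hr hv hv0
      refine absurd (hlin _ fun k => ?_) hgS
      exact (isSemi_of_sing E hd3 hr S' hall k).imp fun k' hk' x => by simpa only [qHom_mulVec] using hk' x
    push Not at hall
    obtain ⟨x, hx, hgx⟩ := hall
    have hx0 : x ≠ 0 := fun h => hgx (by rw [h, map_zero, map_zero])
    obtain ⟨f, e, t, S'⟩ := exists_std E hd3 hr hx hx0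
    by_cases hT : Tight R M x
    · exact (false_of_move E S' hnV hM hT hMe hr hd3 hg hgx).elim
    · simp only [Tight, not_forall] at hT
      obtain ⟨h, hh, hfix, hne⟩ := hT
      exact eichGroup_le_of_long E hnV S' hM hr hh hfix hne

/-- The normaliser of a self-adjoint cubic field of matrices of size nine in Omega, odd characteristic. -/
theorem isMaximalIn_orthFieldThree {ι : Type} [Fintype ι] [DecidableEq ι]
    (h2 : (2 : F) ≠ 0) (hd : Fintype.card ι = 9)
    (Q : (ι → F) → F) (hQ : Cfsg.Geo.IsNondegenerateQuadraticForm Q) (A : Subalgebra F (Matrix ι ι F))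
    (hA : Cfsg.Geo.IsFieldSubalgebra 3 A) (hsa : Cfsg.Geo.IsSelfAdjointFor (QuadraticMap.polar Q) A) :
    Cfsg.Geo.IsMaximalIn (Cfsg.Geo.omegaGL Q) (Cfsg.Geo.subalgebraNormalizer A ⊓ Cfsg.Geo.omegaGL Q) := by
  obtain ⟨q, hq, hQ'⟩ := exists_quadraticForm hQ
  subst hq
  classical
  haveI : Nontrivial A := Module.nontrivial_of_finrank_pos (R := F) (by rw [hA.finrank_eq]; exact Nat.succ_pos _)
  letI : CommRing A := { (inferInstance : Ring A) with mul_comm := fun a b => Subtype.ext (hA.comm _ a.2 _ b.2) }
  have hfield : IsField A :=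
    { exists_pair_ne := exists_pair_ne A
      mul_comm := mul_comm
      mul_inv_cancel := fun {a} ha => by
        obtain ⟨y, hy, h⟩ := hA.inv _ a.2 (fun h0 => ha (Subtype.ext h0))
        exact ⟨⟨y, hy⟩, Subtype.ext h⟩ }
  letI : Field A := hfield.toField
  letI modA : Module A (ι → F) :=
    Module.compHom _ (((Matrix.toLinAlgEquiv' : Matrix ι ι F ≃ₐ[F] _).toAlgHom.comp A.val).toRingHom)
  letI : SMul A (ι → F) := modA.toDistribMulAction.toSMul
  have hsmul : ∀ (a : A) (x : ι → F), a • x = (a : Matrix ι ι F) *ᵥ x := fun a x => rfl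
  haveI : IsScalarTower F A (ι → F) := IsScalarTower.of_algebraMap_smul fun c x => by
    refine (hsmul _ x).trans ?_
    change (algebraMap F (Matrix ι ι F) c) *ᵥ x = c • x
    rw [Algebra.algebraMap_eq_smul_one, Matrix.smul_mulVec, Matrix.one_mulVec]
  haveI : FiniteDimensional F A := Module.finite_of_finrank_pos (by rw [hA.finrank_eq]; exact Nat.succ_pos _)
  refine core (K := A) q hQ' h2 hA.finrank_eq hd
    (fun k x y => ?_) (fun g hg => ?_) (fun g hg k => ?_)
  · rw [hsmul, hsmul]; exact hsa k k.2 x y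
  · refine UnitOver.mem_normalizer_of_semi fun k hk => ?_
    obtain ⟨k', hk'⟩ := hg ⟨k, hk⟩
    exact ⟨k', k'.2, fun x => by simpa [hsmul] using hk' x⟩
  · obtain ⟨k', hk', h'⟩ := UnitOver.semi_of_mem_normalizer hg k.2
    exact ⟨⟨k', hk'⟩, fun x => by simpa [hsmul] using h' x⟩

end CfsgLib.Classical22.OrthField.Cubic
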